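import Cfsg.Agent.ExA.E7
import Cfsg.Agent.ExA.G
import Cfsg.Agent.Chev.MatRep

/-! Minuscule modules in characteristic `2`. -/

set_option autoImplicit false

namespace CF.E72

open CF.Chev CF.BN CF.ExA Matrix Finset Function

section
variable {B ι I : Type} [Fintype B] [DecidableEq B] [Fintype ι] [DecidableEq ι] [Fintype I]
  [DecidableEq I] (C : ChevBasis B ι)

/-- A root in the basis of fundamental weights. -/
def rt (r : ι) : B → ℤ := fun i => C.sp i (C.vec r)

/-- The value of a weight at a coroot. -/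
def pw (μ : B → ℤ) (r : ι) : ℤ := ∑ i, C.vec r i * μ i

/-- A minuscule system of weights. -/
structure Mins (wt : I → B → ℤ) : Prop where
  sl : C.SameLen
  inj : Injective wt
  ref : ∀ a r, pw C (wt a) r = 0 ∨ pw C (wt a) r = 1 ∨
    pw C (wt a) r = -1 ∧ ∃ b, wt b = wt a + rt C r

variable {C} {wt : I → B → ℤ}

theorem pw_add (μ ν : B → ℤ) (r : ι) : pw C (μ + ν) r = pw C μ r + pw C ν r := by
  simp [pw, mul_add, sum_add_distrib]

theorem pw_add' (μ : B → ℤ) {r s u : ι} (h : C.vec u = C.vec s + C.vec r) :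
    pw C μ u = pw C μ s + pw C μ r := by simp [pw, h, add_mul, sum_add_distrib]

theorem pw_neg (μ : B → ℤ) (r : ι) : pw C μ (C.neg r) = -pw C μ r := by simp [pw, C.vec_neg]

theorem pw_simple (μ : B → ℤ) (i : B) : pw C μ (C.simple i) = μ i := by
  simp [pw, C.vec_simple, Pi.single_apply]

theorem rt_add {r s u : ι} (h : C.vec u = C.vec s + C.vec r) : rt C u = rt C s + rt C r := by
  funext i; simp [rt, h]

theorem rt_neg (r : ι) : rt C (C.neg r) = -rt C r := by funext i; simp [rt, C.vec_neg]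

/-- A matrix moving some of the weights by `ν`. -/
noncomputable def mP (wt : I → B → ℤ) (R : Type*) [Zero R] [One R] (P : I → Prop) (ν : B → ℤ) :
    Matrix I I R := of fun a b => @ite _ (P b ∧ wt a = wt b + ν) (_root_.Classical.dec _) 1 0

theorem mP_congr {R : Type*} [Zero R] [One R] {P Q : I → Prop} {ν ν' : B → ℤ} (e : ν = ν')
    (h : ∀ a b, wt a = wt b + ν → (P b ↔ Q b)) : mP wt R P ν = mP wt R Q ν' := by
  subst e
  ext a b
  exact congrArg (@ite _ · (_root_.Classical.dec _) 1 0) (propext (and_congr_left (h a b)))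

theorem mP_zero {R : Type*} [Zero R] [One R] {P : I → Prop} {ν : B → ℤ}
    (h : ∀ a b, wt a = wt b + ν → ¬P b) : mP wt R P ν = 0 := by
  ext a b
  exact if_neg fun k => h a b k.2 k.1

namespace Mins

variable (h : Mins C wt)
include h

theorem pw_rt (r s : ι) : pw C (rt C s) r = C.A r s :=
  sum_congr rfl fun i _ => by
    rw [mul_right_cancel₀ (C.len_ne_zero r) ((C.cov_len r i).trans (by rw [h.sl r]))]; rfl

theorem ex {b : I} {r : ι} : (∃ c, wt c = wt b + rt C r) ↔ pw C (wt b) r = -1 := by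
  have h1 := h.ref b r
  refine ⟨fun ⟨c, e⟩ => ?_, fun e => ?_⟩
  · have h2 := h.ref c r
    rw [e, pw_add, h.pw_rt, C.A_self] at h2
    omega
  · rcases h1 with k | k | k
    · omega
    · omega
    · exact k.2

theorem mul {R : Type*} [Semiring R] (P Q : I → Prop) (μ ν : B → ℤ) : mP wt R Q μ * mP wt R P ν =
    mP wt R (fun b => P b ∧ ∃ c, wt c = wt b + ν ∧ Q c) (ν + μ) := by
  ext a b
  simp only [mul_apply, mP, of_apply, mul_ite, mul_one, mul_zero]
  by_cases e : ∃ c, wt c = wt b + ν
  · obtain ⟨c, e⟩ := e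
    have k : ∀ d, wt d = wt b + ν ↔ d = c := fun d => by rw [← e, h.inj.eq_iff]
    rw [sum_eq_single c (fun d _ hd => if_neg fun x => hd ((k d).1 x.2)) (by simp)]
    have k' : (∃ d, wt d = wt b + ν ∧ Q d) ↔ Q c := by simp only [k, exists_eq_left]
    rw [← ite_and]
    refine @if_congr _ _ _ (_) (_) _ _ _ _ ?_ rfl rfl
    rw [k', e, add_assoc]
    tauto
  · rw [sum_eq_zero fun d _ => if_neg fun x => e ⟨d, x.2⟩, if_neg fun ⟨⟨_, c, x, _⟩, _⟩ => e ⟨c, x⟩]

theorem ge (a : I) (r : ι) : -1 ≤ pw C (wt a) r ∧ pw C (wt a) r ≤ 1 := by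
  have := h.ref a r
  omega

theorem eq_neg {r s : ι} (e : C.A r s = -2) : s = C.neg r := by
  by_contra k
  by_cases k' : s = r
  · rw [k', C.A_self] at e; omega
  · have := RootSys.abs_A_le_of_len (h.sl r s) k' k
    omega

theorem step {r s : ι} (h1 : ∀ u, C.vec u ≠ C.vec s + C.vec r) (h2 : s ≠ C.neg r) {a b : I}
    (e : wt a = wt b + (rt C s + rt C r)) (k : ∃ c, wt c = wt b + rt C s) :
    ∃ c, wt c = wt b + rt C r := by
  obtain ⟨c, k⟩ := k
  have h3 := h.ex.1 ⟨a, show wt a = wt c + rt C r by rw [e, k, add_assoc]⟩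
  rw [k, pw_add, h.pw_rt] at h3
  have h4 : ¬C.A r s < 0 := fun x => let ⟨u, hu⟩ := C.exists_add_of_A_neg x h2; h1 u hu
  have := h.ge b r
  exact h.ex.2 (by omega)

/-- The representation of the Lie algebra. -/
noncomputable def rep (K : Type*) [Field K] [CharP K 2] : MinRep C (Matrix I I K) where
  e r := mP wt K (fun _ => True) (rt C r)
  br_root r s u e := by
    have h1 : (C.N r s).natAbs = 1 := C.N_abs_one r s u e fun v k => by
      have k1 := RootSys.A_add e r
      have k2 := RootSys.A_sub k r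
      rw [C.A_self] at k1 k2
      have k3 := RootSys.abs_A_le_of_len (h.sl r u) (C.add_ne_left (e.trans (add_comm _ _)))
        (C.add_ne_neg_left (e.trans (add_comm _ _)))
      have k4 := h.eq_neg (r := r) (s := v) (by
        by_contra x
        have := RootSys.abs_A_le_of_len (h.sl r v) (by rintro rfl; rw [C.A_self] at k2; omega)
          (by rintro rfl; simp at x)
        omega)
      rw [k4, C.vec_neg] at k
      exact C.vec_ne_zero s (by linear_combination (exp := 1) -k)
    have h2 : ((C.N r s : ℤ) : K) = 1 := by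
      obtain h | h := Int.natAbs_eq_iff.1 h1 <;> simp [h, CharTwo.neg_eq]
    rw [← Int.cast_smul_eq_zsmul K, h2, one_smul, h.mul, h.mul]
    ext a b
    simp only [mP, Matrix.sub_apply, of_apply, true_and, and_true, h.ex, rt_add e, add_comm (rt C r)]
    by_cases k : wt a = wt b + (rt C s + rt C r)
    · have h2 := h.ex.1 ⟨a, k.trans (by rw [rt_add e])⟩
      rw [pw_add' _ e] at h2
      have := h.ge b r
      have := h.ge b s
      by_cases k' : pw C (wt b) s = -1
      · simp [k, k', show pw C (wt b) r ≠ -1 by omega]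
      · simp [k, k', show pw C (wt b) r = -1 by omega, CharTwo.neg_eq]
    · simp [k]
  br_none r s h1 h2 := by
    rw [h.mul, h.mul]
    refine mP_congr (add_comm _ _) fun a b e => ?_
    simp only [true_and, and_true]
    exact ⟨h.step h1 h2 e, h.step (fun u => add_comm (C.vec s) _ ▸ h1 u)
      (fun x => h2 (C.eq_neg_comm.1 x)) (add_comm (rt C s) _ ▸ e)⟩
  sq r := by
    rw [h.mul]
    refine mP_zero fun a b e ⟨_, c, k, _⟩ => ?_
    have h3 := h.ex.1 ⟨a, show wt a = wt c + rt C r by rw [e, k, add_assoc]⟩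
    have := h.ge b r
    rw [k, pw_add, h.pw_rt, C.A_self] at h3
    omega
  tri_none r s h1 _ := by
    rw [h.mul, h.mul]
    refine mP_zero fun a b e ⟨_, c, k, _, d, k', _⟩ => h1 (h.eq_neg ?_)
    have h3 := h.ex.1 ⟨a, show wt a = wt d + rt C r by rw [e, k', k, add_assoc, add_assoc]⟩
    have := h.ex.1 ⟨c, k⟩
    rw [k', k, pw_add, pw_add, h.pw_rt, h.pw_rt, C.A_self] at h3
    omega
  tri_root a b c r e := absurd (by rw [e.hc, h.eq_neg e.ba, C.vec_neg, neg_add_cancel])
    (C.vec_ne_zero c)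
  tri_neg r := by
    rw [h.mul, h.mul]
    exact mP_congr (by rw [rt_neg]; abel) fun a b e => iff_of_true ⟨trivial, a,
      by rw [e, rt_neg]; abel, trivial, b, by rw [e, rt_neg]; abel, trivial⟩ trivial

variable (K : Type*) [Field K] [CharP K 2]

theorem ee (r : ι) : (h.rep K).e r * (h.rep K).e (C.neg r) =
    diagonal fun a => if pw C (wt a) r = 1 then 1 else 0 := by
  refine (h.mul _ _ _ _).trans ?_
  ext a b
  simp only [mP, of_apply, true_and, and_true, h.ex]
  simp only [pw_neg, rt_neg, neg_add_cancel, add_zero, h.inj.eq_iff, diagonal_apply, neg_inj]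
  by_cases e : a = b <;> simp [e]

theorem val_h (r : ι) (t : Kˣ) : (((h.rep K).st K h.sl.n3).h r t).1 =
    diagonal fun a => ((t ^ pw C (wt a) r : Kˣ) : K) := by
  have := h.ee K (C.neg r)
  rw [C.neg_neg] at this
  rw [MinRep.val_st_h, h.ee, this]
  ext a b
  by_cases e : a = b
  · rcases h.ref b r with k | k | ⟨k, -⟩ <;> simp [e, pw_neg, k]
  · simp [e]

variable {K} {G : Type*} [Group G] {ρ : StRep C K G}

theorem exists_rep (u : Univ ρ) : ∃ R : G →* Matrix I I K,
    (∀ r t, R (ρ.x r t) = 1 + t • mP wt K (fun _ => True) (rt C r)) ∧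
    ∀ c, R (u.r3.tor c) = diagonal fun a => ((∏ i, c i ^ wt a i : Kˣ) : K) := by
  have h3 := (h.rep K).r3_st K h.sl.n3
  have h4 := h3.tor_apply_of_diag (Units.coeHom _) wt fun i t =>
    (h.val_h K (C.simple i) t).trans (by simp only [pw_simple])
  obtain ⟨σ, hσ⟩ := StRep.exists_hom_of_tor u.faith u.top u.r3 h3
    fun c hc => by rw [(injective_iff_map_eq_one _).1 u.inj c hc, map_one]
  refine ⟨(Units.coeHom _).comp σ, fun r t => ?_, fun c => ?_⟩
  · rw [MonoidHom.comp_apply, hσ]; rfl
  · rw [← h4 c, ← show σ (u.r3.tor c) = h3.tor c from fh_tor (τ := .id K) hσ _ _ c]; rfl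

end Mins

end

/-- The weights of the module of dimension `56`. -/
def wt (a : Fin 56) : Fin 7 → ℤ := fn 7 (w56.getD a [])

theorem wts_w56 : wts 7 w56 = univ.val.map wt := by decide +kernel

theorem wt_ne (a : Fin 56) : ∃ i, wt a i = 1 ∨ wt a i = -1 := by revert a; decide +kernel

theorem ref56 : allLt 126 fun r => forceL ((List.range 7).map (tabE7.vec r)) fun v =>
    forceL ((List.range 7).map (tabE7.car · r)) fun u => w56.all fun μ =>
      dotL v μ == 0 || dotL v μ == 1 || dotL v μ == -1 && w56.contains (List.zipWith (· + ·) μ u) := by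
  decide +kernel

theorem mins : Mins cE7 wt := by
  refine ⟨sameLenE7, by decide +kernel, fun a r => ?_⟩
  have H := tabOf certE7
  have h1 := allLt_iff.1 ref56 r r.2
  simp only [forceL_eq, List.all_eq_true, Bool.or_eq_true, beq_iff_eq, Bool.and_eq_true,
    List.contains_iff_mem, or_assoc] at h1
  have h2 := h1 _ (List.getElem_mem (l := w56) a.2)
  have h3 : (List.range 7).map (tabE7.vec r) = List.ofFn (cE7.vec r) := by
    rw [show cE7.vec r = _ from funext (H.vec r), List.ofFn_eq_map]; rfl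
  have h4 : w56[a.1]'a.2 = w56.getD a [] := (List.getD_eq_getElem _ _ _).symm
  rw [h3, dotL_ofFn, h4] at h2
  refine h2.imp_right (Or.imp_right (And.imp_right fun k => ?_))
  obtain ⟨b, hb, e⟩ := List.getElem_of_mem k
  refine ⟨⟨b, hb⟩, funext fun i => ?_⟩
  have h5 : ∀ a : Fin 56, (w56.getD a []).length = 7 := by decide +kernel
  have h6 : ∀ (l : List ℤ) (f : ℕ → ℤ), l.length = 7 → fn 7 (List.zipWith (· + ·) l
      ((List.range 7).map f)) i = fn 7 l i + f i := fun l f hl => by
    rw [fn, fn, List.getD_eq_getElem _ _ (by simp [hl]), List.getD_eq_getElem _ _ (by simp [hl])]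
    simp
  rw [wt, List.getD_eq_getElem _ _ hb, e, h6 _ _ (h5 a), Pi.add_apply, rt, ← cE7.A_simple]
  exact congrArg _ (H.car i r).symm

end CF.E72
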