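import Cfsg.Agent.E72.A

/-! The module of dimension `56` for `E₇(2)`. -/

set_option autoImplicit false

namespace CF.E72

open CF.Chev CF.BN CF.ExA Cfsg.Lie Matrix Finset Function Module

/-- Matrices of size `56`. -/
abbrev Mt (R : Type*) := Matrix (Fin 56) (Fin 56) R

section
variable (K : Type*) [Field K] [CharP K 2] {X : Type*} [Group X]

/-- The prime field. -/
abbrev ι2 : ZMod 2 →+* K := ZMod.castHom (dvd_refl 2) K

/-- Extension of scalars. -/
noncomputable def rK (ρ : X →* Mt (ZMod 2)) : X →* End K (Fin 56 → K) :=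
  ((toLinAlgEquiv' (R := K)).toMulEquiv.toMonoidHom.comp (ι2 K).mapMatrix.toMonoidHom).comp ρ

theorem rK_apply (ρ : X →* Mt (ZMod 2)) (g : X) (v : Fin 56 → K) :
    rK K ρ g v = (ρ g).map (ι2 K) *ᵥ v := rfl

variable {K} in
/-- Coordinates for a family of elements of a maximal torus. -/
structure Co (r : X →* End K (Fin 56 → K)) {m : ℕ} {V : Type*} (φ : V → X)
    (Y : V → Fin 7 → ZMod m) : Prop where
  eig : ∃ (ψ : AddChar (ZMod m) Kˣ) (b : Basis (Fin 56) K (Fin 56 → K)), Injective ψ ∧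
    ∀ v c, r (φ v) (b c) = (ψ (dz (Y v) (wt c)) : K) • b c
  eq : ∀ a b, Y a = Y b ↔ φ a = φ b
  zero : ∀ a, Y a = 0 ↔ φ a = 1
  frob : ∃ w ∈ cE7.W, ∀ v, Mz cE7 m w *ᵥ Y v = 2 • Y v
  conj : ∀ u, ∃ w ∈ cE7.W, ∀ a b, u * φ a * u⁻¹ = φ b → Mz cE7 m w *ᵥ Y a = Y b

/-- The facts that are used about the module. -/
structure Dat (ρ : X →* Mt (ZMod 2)) : Prop where
  fix : ∀ v, (∀ g, ρ g *ᵥ v = v) → v = 0
  fix' : ∀ v, (∀ g, v ᵥ* ρ g = v) → v = 0
  tor : ∀ {m : ℕ} [NeZero m], Odd m → ∀ {a b : X} {ℓ k : ℕ}, ℓ.Prime → ℓ ≠ 2 → a ^ ℓ ^ k = 1 →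
    Commute a b → a ^ m = 1 → b ^ m = 1 → ∃ y z : Fin 7 → ZMod m,
      Co (rK K ρ) (fun p : ℕ × ℕ => a ^ p.1 * b ^ p.2) fun p => p.1 • y + p.2 • z

end

variable {X : Type*} [Group X] (L : LS cE7 1 2 2 1 X)

/-- The identification with the fixed points. -/
noncomputable def eG : Fx L.T.σ ≃* X :=
  MulEquiv.ofBijective L.θ ⟨L.θ.ker_eq_bot_iff.1 (Subgroup.card_eq_one.1 L.card_ker), L.surj⟩

/-- The embedding in the algebraic group. -/
noncomputable def jG : X →* L.G := (Fx L.T.σ).subtype.comp (eG L).symm.toMonoidHom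

theorem in_jG : In 2 L.h (jG L) :=
  ⟨L.big, Subtype.val_injective.comp (eG L).symm.injective, fun x => (in_top L).alg _⟩

theorem σ_jG (x : X) : L.T.σ (jG L x) = jG L x := ((eG L).symm x).2

theorem exists_jG {g : L.G} (h : L.T.σ g = g) : ∃ x, jG L x = g :=
  ⟨eG L ⟨g, h⟩, congrArg Subtype.val ((eG L).symm_apply_apply _)⟩

theorem mP_map {R S : Type*} [Semiring R] [Semiring S] (f : R →+* S) (P : Fin 56 → Prop)
    (ν : Fin 7 → ℤ) : (mP wt R P ν).map f = mP wt S P ν := by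
  ext a b; simp [mP, apply_ite f]

theorem exists_rt (a : Fin 56) : ∃ i, ∃ r, (r = cE7.simple i ∨ r = cE7.neg (cE7.simple i)) ∧
    ∃ b, wt b = wt a + rt cE7 r := by
  obtain ⟨i, h | h⟩ := wt_ne a
  · exact ⟨i, _, .inr rfl, mins.ex.2 (by rw [pw_neg, pw_simple, h])⟩
  · exact ⟨i, _, .inl rfl, mins.ex.2 (by rw [pw_simple, h])⟩

theorem exists_dat' [Finite X] : ∃ ρ : X →* Mt (ZMod 2), Dat L.K ρ := by
  classical
  obtain ⟨R, h1, h2⟩ := mins.exists_rep L.h
  have h3 : R.comp L.T.σ = L.φ.mapMatrix.toMonoidHom.comp R := by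
    have k : ∀ r t, L.φ.mapMatrix (R (L.ρ.x r t)) = R (L.ρ.x r (L.φ t)) := fun r t => by
      rw [h1, h1, map_add, map_one, RingHom.mapMatrix_apply]
      congr 1
      ext a b
      simp [mP, apply_ite L.φ]
    refine MonoidHom.eq_of_eqOn_dense (L.ρ.U_simple.trans L.h.top) ?_
    rintro _ ⟨r, ⟨i, rfl | rfl⟩, t, rfl⟩
    exacts [(congrArg R (L.gr.σ_pos i t)).trans (k _ t).symm,
      (congrArg R (L.gr.σ_neg i t)).trans (k _ t).symm]
  have h4 : ∀ x, (of fun a b => if R (jG L x) a b = 0 then 0 else 1 : Mt (ZMod 2)).map (ι2 L.K) =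
      R (jG L x) := fun x => by
    ext a b
    have k : R (jG L x) a b = R (jG L x) a b ^ 2 := by
      rw [← L.φ_eq]
      exact congrFun₂ ((congrArg R (σ_jG L x)).symm.trans (DFunLike.congr_fun h3 _)) a b
    by_cases e : R (jG L x) a b = 0
    · simp [e]
    · simpa [e] using mul_left_cancel₀ e ((mul_one _).trans (k.trans (sq _)))
  have h5 : Function.Injective ((ι2 L.K).mapMatrix (m := Fin 56)) := map_injective (ι2 L.K).injective
  obtain ⟨ρ, h6⟩ : ∃ ρ : X →* Mt (ZMod 2), ∀ x, (ρ x).map (ι2 L.K) = R (jG L x) :=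
    ⟨⟨⟨fun x => of fun a b => if R (jG L x) a b = 0 then 0 else 1, h5 ((h4 1).trans (by simp))⟩,
      fun x y => h5 ((h4 (x * y)).trans (by
        rw [map_mul, map_mul, map_mul, ← h4 x, ← h4 y]; rfl))⟩, h4⟩
  have h7 : ∀ i r, r = cE7.simple i ∨ r = cE7.neg (cE7.simple i) →
      ∃ x, ρ x = 1 + mP wt _ (fun _ => True) (rt cE7 r) := fun i r hr => by
    obtain ⟨x, hx⟩ := exists_jG L (g := L.ρ.x r 1) (by
      rcases hr with rfl | rfl
      · simpa using L.gr.σ_pos i 1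
      · simpa using L.gr.σ_neg i 1)
    exact ⟨x, h5 ((h6 x).trans (by rw [hx, h1, map_add, map_one, one_smul, ← mP_map (ι2 L.K)]; rfl))⟩
  refine ⟨ρ, fun v hv => funext fun a => ?_, fun v hv => funext fun a => ?_, ?_⟩
  · obtain ⟨i, r, hr, b, e⟩ := exists_rt a
    obtain ⟨x, hx⟩ := h7 i r hr
    have := congrFun (hv x) b
    rw [hx, add_mulVec, one_mulVec, Pi.add_apply, add_eq_left] at this
    simpa [mP, mulVec, dotProduct, e, mins.inj.eq_iff] using this
  · obtain ⟨i, r, hr, b, e⟩ := exists_rt a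
    obtain ⟨x, hx⟩ := h7 i (cE7.neg r) (by rcases hr with rfl | rfl <;> simp)
    have := congrFun (hv x) b
    rw [hx, vecMul_add, vecMul_one, Pi.add_apply, add_eq_left] at this
    simpa [mP, vecMul, dotProduct, e, mins.inj.eq_iff, rt_neg] using this
  intro m _ hm a b ℓ k p1 p2 ha hc ha' hb'
  have hm' := Nat.coprime_two_right.2 hm
  have t := ((in_jG L).toral_pair hc (hm'.coprime_dvd_left (orderOf_dvd_of_pow_eq_one hb')) p1 p2
    ha).closure
  obtain ⟨Y, H⟩ := Toral.coord L.h (φ := fun p : ℕ × ℕ => jG L (a ^ p.1 * b ^ p.2)) hm' (t.mono (by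
    rintro _ ⟨p, rfl⟩
    simp only [map_mul, map_pow]
    exact mul_mem (pow_mem (Subgroup.subset_closure (by simp)) _)
      (pow_mem (Subgroup.subset_closure (by simp)) _))) fun p => by
    rw [← map_pow, (hc.pow_pow _ _).mul_pow, pow_right_comm, ha', pow_right_comm, hb']; simp
  have e : Y = fun p => p.1 • Y (1, 0) + p.2 • Y (0, 1) := funext fun p => by
    rw [← H.smul (b := (p.1, 0)) (by simp), ← H.smul (b := (0, p.2)) (by simp), H.add_iff]; simp
  refine ⟨Y (1, 0), Y (0, 1), e ▸ ⟨?_, fun p q => H.eq_iff.trans (in_jG L).inj.eq_iff,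
    fun p => H.zero_iff.trans (map_eq_one_iff _ (in_jG L).inj), ?_, fun u => ?_⟩⟩
  · obtain ⟨g, ψ, k1, k2⟩ := H
    let R' := (toLinAlgEquiv' (R := L.K) (n := Fin 56)).toMulEquiv.toMonoidHom.comp R
    refine ⟨ψ, (Pi.basisFun L.K (Fin 56)).map
      (LinearMap.GeneralLinearGroup.toLinearEquiv (R'.toHomUnits g)), k1, fun v c => ?_⟩
    rw [rK_apply, h6, show jG L _ = _ from k2 v]
    simp only [Basis.map_apply, Pi.basisFun_apply]
    change R' _ (R' g _) = _ • R' g _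
    rw [Classical.rep_conj_apply R' rfl, ← map_smul]
    congr 1
    change R _ *ᵥ _ = _
    rw [h2, diagonal_mulVec_single, ← Pi.single_smul, smul_eq_mul]
    simp only [← AddChar.map_zsmul_eq_zpow, zsmul_eq_mul, dz, mul_comm (Y v _)]
    exact congrArg (fun u : L.Kˣ => (Pi.single c ((u : L.K) * 1) : Fin 56 → L.K))
      (map_prod ψ.toMonoidHom (fun j => .ofAdd ((wt c j : ZMod m) * Y v j)) _).symm
  · obtain ⟨w, hw, k⟩ := H.frob L.σ_tor
    refine ⟨w, hw, fun v => (k v (σ_jG L _)).trans (funext fun i => ?_)⟩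
    simp only [Pm, mulVec, dotProduct, map_apply, of_apply, apply_ite (Int.cast (R := ZMod m))]
    simp
  · obtain ⟨w, hw, k⟩ := H.conj (jG L u)
    exact ⟨w, hw, fun p q e => k p q (by rw [← e]; simp)⟩

theorem exists_dat : ∃ (K : Type) (_ : Field K) (_ : CharP K 2) (_ : IsAlgClosed K)
    (ρ : chevE7.group (ZMod 2) →* Mt (ZMod 2)), Dat K ρ := by
  obtain ⟨L⟩ : Nonempty (LS.{0} cE7 1 2 2 1 (chevE7.group (ZMod 2))) :=
    exists_LS_chev goodE7 (fun K _ => torE7 K) cenE7 (ZMod 2) 2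
  exact ⟨_, _, _, inferInstance, exists_dat' L⟩

end CF.E72
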