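import Cfsg.Agent.E72.B
import Cfsg.Agent.E83.B
import Cfsg.Agent.S1054
import Cfsg.Agent.S1265

/-! A maximal subgroup with a normal subgroup fixing a vector is large. -/

set_option autoImplicit false

namespace CF.E72

open Subgroup MulAction Module Matrix CF.E83 Cfsg Cfsg.Lie
open scoped Pointwise

section Act
variable {X W : Type*} [Group X] [Finite X] [AddCommGroup W] [Finite W] [DistribMulAction X W]

theorem exists_vec (h2 : ∀ w : W, w + w = 0) {S : Subgroup X} [S.Normal] {a e : ℕ}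
    (hi : S.index ∣ 2 ^ a * 3 ^ e) {u : W} (h0 : u ≠ 0) (hu : ∀ g ∈ S, g • u = u) :
    ∃ v : W, v ≠ 0 ∧ (stabilizer X v).index ∣ 3 ^ e := by
  obtain ⟨P⟩ : Nonempty (Sylow 2 X) := inferInstance
  let u' : FixedPoints.addSubgroup S W := ⟨u, fun g => hu g g.2⟩
  have h1 : 2 ∣ Nat.card (fixedPoints S W) := addOrderOf_eq_prime (x := u') (p := 2)
    (Subtype.ext ((two_nsmul u).trans (h2 u))) (fun e => h0 (congrArg Subtype.val e)) ▸
      addOrderOf_dvd_natCard u'
  obtain ⟨b, hb, e⟩ := P.2.exists_fixed_point_of_prime_dvd_card_of_fixed_point (fixedPoints S W) h1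
    (a := ⟨0, fun g => smul_zero g⟩) fun g => Subtype.ext (smul_zero (g : X))
  refine ⟨b, fun k => e (Subtype.ext k.symm), Nat.Coprime.dvd_of_dvd_mul_left (Nat.Coprime.pow_right
    _ ((Nat.coprime_comm.1 (Nat.prime_two.coprime_iff_not_dvd.2 fun k => P.not_dvd_index
      (k.trans (index_dvd_of_le fun g hg => ?_)))))) ((index_dvd_of_le fun g hg => ?_).trans hi)⟩
  exacts [congrArg Subtype.val (hb ⟨g, hg⟩), b.2 ⟨g, hg⟩]

theorem idx_le (v : W) : (stabilizer X v).index ≤ Nat.card W := by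
  rw [index_stabilizer]; exact Set.ncard_le_card _

theorem large [IsSimpleGroup X] (h6 : 6 < Nat.card X) (h2 : ∀ w : W, w + w = 0)
    (f0 : ∀ v : W, (∀ g : X, g • v = v) → v = 0) {H : Subgroup X} (hH : IsCoatom H)
    {S : Subgroup H} [S.Normal] {a e : ℕ} (hi : S.index ∣ 2 ^ a * 3 ^ e) (he : e ≤ 1) {u : W}
    (h0 : u ≠ 0) (hu : ∀ g ∈ S, g • u = u) : Nat.card X ≤ Nat.card H * Nat.card W ^ (e + 1) := by
  classical
  have key : ∀ {K : Subgroup X} {n}, H ≤ K → K ≠ ⊤ → K.index ≤ n → Nat.card X ≤ Nat.card H * n :=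
    fun h1 h2 h3 => by
      rw [← H.card_mul_index]
      exact Nat.mul_le_mul_left _ ((hH.le_iff.1 h1).resolve_left h2 ▸ h3)
  have one : ∀ v : W, v ≠ 0 → (∀ g : H, g • v = v) →
      Nat.card X ≤ Nat.card H * Nat.card W ^ (e + 1) := fun v h1 h3 =>
    key (K := stabilizer X v) (fun g hg => h3 ⟨g, hg⟩) (fun k => h1 (f0 v fun g => k.ge trivial))
      ((idx_le v).trans (Nat.le_self_pow (by omega) _))
  obtain ⟨v, h1, h3⟩ := exists_vec h2 hi h0 hu
  by_cases h4 : stabilizer H v = ⊤
  · exact one v h1 fun g => h4.ge trivial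
  obtain rfl : e = 1 := by
    by_contra k
    exact h4 (index_eq_one.1 (by simpa [show e = 0 by omega] using h3))
  have h5 : (orbit H v).ncard = 3 := index_stabilizer H v ▸
    ((Nat.dvd_prime Nat.prime_three).1 h3).resolve_left fun k => h4 (index_eq_one.1 k)
  obtain ⟨x, y, z, k1, k2, k3, k4⟩ := Set.ncard_eq_three.1 h5
  have h7 : ∀ g : H, (g : X) • orbit H v = orbit H v := fun g => smul_orbit g v
  by_cases h8 : x + y + z = 0
  · refine key (K := stabilizer X (orbit H v)) (fun g hg => h7 ⟨g, hg⟩) (fun k => ?_) ?_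
    · have h9 : (stabilizer X v).index ≤ 3 := by
        rw [index_stabilizer, ← h5]
        refine Set.ncard_le_ncard ?_ (Set.toFinite _)
        rintro _ ⟨g, rfl⟩
        exact (k.ge trivial : g • orbit H v = _) ▸ Set.smul_mem_smul_set (mem_orbit_self v)
      rcases (inferInstance : (stabilizer X v).normalCore.Normal).eq_bot_or_eq_top with k | k
      · have := Nat.card_le_card_of_injective _ ((MonoidHom.ker_eq_bot_iff _).1
          ((normalCore_eq_ker _).symm.trans k))
        rw [Nat.card_perm] at this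
        exact (this.trans (Nat.factorial_le h9)).not_gt h6
      · exact h1 (f0 v fun g => normalCore_le _ (k.ge trivial))
    · refine (index_antitone (H := stabilizer X x ⊓ stabilizer X y) fun g hg => ?_).trans
        (index_inf_le.trans (sq (Nat.card W) ▸ Nat.mul_le_mul (idx_le x) (idx_le y)))
      have : g • z = z := by
        rw [← neg_eq_of_add_eq_zero_right h8, smul_neg, smul_add, hg.1, hg.2]
      rw [mem_stabilizer_iff, k4, Set.smul_set_insert, Set.smul_set_insert, Set.smul_set_singleton,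
        hg.1, hg.2, this]
  · refine one _ h8 fun g => ?_
    have s : ∀ f : W → W, ∑ w ∈ ({x, y, z} : Finset W), f w = f x + f y + f z := fun f => by
      rw [Finset.sum_insert (by simp [k1, k2]), Finset.sum_pair k3, add_assoc]
    have h9 : g • ({x, y, z} : Finset W) = {x, y, z} :=
      Finset.coe_injective (by simpa [k4, Subgroup.smul_def] using h7 g)
    have := s id
    rw [← h9, Finset.smul_finset_def, Finset.sum_image (MulAction.injective g).injOn, s] at this
    rw [smul_add, smul_add]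
    exact this

end Act

section Lin
variable {K V X : Type*} [Field K] [AddCommGroup V] [Module K V] [Group X] (r : X →* End K V)

/-- The subgroup fixes a vector or a linear form. -/
def Fix (S : Subgroup X) : Prop := (∃ v, v ≠ 0 ∧ ∀ g ∈ S, r g v = v) ∨
  ∃ φ : Dual K V, φ ≠ 0 ∧ ∀ g ∈ S, ∀ v, φ (r g v) = φ v

variable {r}

theorem Fix.mono {S T : Subgroup X} (h : Fix r S) (e : T ≤ S) : Fix r T :=
  h.imp (fun ⟨v, h0, h⟩ => ⟨v, h0, fun g hg => h g (e hg)⟩)
    fun ⟨v, h0, h⟩ => ⟨v, h0, fun g hg => h g (e hg)⟩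

theorem Fix.gen {s : Set X} (h : (∃ v, v ≠ 0 ∧ ∀ g ∈ s, r g v = v) ∨
    ∃ φ : Dual K V, φ ≠ 0 ∧ ∀ g ∈ s, ∀ v, φ (r g v) = φ v) : Fix r (closure s) := by
  have k : ∀ g v, r g (r g⁻¹ v) = v ∧ r g⁻¹ (r g v) = v := fun g v => by
    simp [← End.mul_apply, ← map_mul]
  refine h.imp (fun ⟨v, h0, h⟩ => ⟨v, h0, fun g hg => ?_⟩) fun ⟨φ, h0, h⟩ => ⟨φ, h0, fun g hg => ?_⟩
  · induction hg using closure_induction with
    | mem x hx => exact h x hx
    | one => simp
    | mul x y _ _ hx hy => simp [hx, hy]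
    | inv x _ hx => exact (congrArg _ hx.symm).trans (k x v).2
  · induction hg using closure_induction with
    | mem x hx => exact h x hx
    | one => simp
    | mul x y _ _ hx hy => simp [hx, hy]
    | inv x _ hx => exact fun v => (hx _).symm.trans (congrArg _ (k x v).1)

variable [FiniteDimensional K V]

theorem fix_scott {a b : X} (h : finrank K V < dm r a + dm r b + dm r (a * b)) :
    Fix r (closure {a, b}) := by
  have h1 := scott (r a) (r b)
  rw [← map_mul] at h1
  refine Fix.gen (or_iff_not_imp_left.2 fun k => ?_)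
  have h2 : fs (r a) ⊓ fs (r b) = ⊥ := (Submodule.eq_bot_iff _).2 fun v hv => by_contra fun e =>
    k ⟨v, e, by simpa [mem_fs] using hv⟩
  obtain ⟨φ, h3, h4⟩ := Submodule.exists_dual_map_eq_bot_of_lt_top
    (p := LinearMap.range (r a - 1) ⊔ LinearMap.range (r b - 1)) (lt_top_iff_ne_top.2 fun e => by
      rw [e, h2, finrank_top, finrank_bot] at h1
      unfold dm at h
      omega) inferInstance
  rw [← LinearMap.le_ker_iff_map, sup_le_iff] at h4
  refine ⟨φ, h3, ?_⟩
  rintro g (rfl | rfl) v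
  exacts [by simpa [sub_eq_zero] using h4.1 ⟨v, rfl⟩, by simpa [sub_eq_zero] using h4.2 ⟨v, rfl⟩]

theorem dm_two [CharP K 2] {a : X} (h : a * a = 1) : finrank K V ≤ 2 * dm r a := by
  have h1 := rk_fs (r a)
  have h2 : LinearMap.range (r a - 1) ≤ fs (r a) := by
    rintro _ ⟨v, rfl⟩
    have : (2 : K) • (v - r a v) = 0 := by rw [show (2 : K) = 0 from CharTwo.two_eq_zero, zero_smul]
    rw [mem_fs, LinearMap.sub_apply, map_sub, ← End.mul_apply, ← map_mul, h, map_one,
      End.one_apply, ← sub_eq_zero, ← this, two_smul]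
    abel
  have := Submodule.finrank_mono h2
  unfold dm
  omega

end Lin

variable {K : Type*} [Field K] [CharP K 2] {X : Type*} [Group X] {ρ : X →* Mt (ZMod 2)}

theorem descend {u : Fin 56 → K} (h : u ≠ 0) : ∃ v : Fin 56 → ZMod 2, v ≠ 0 ∧
    ∀ M : Mt (ZMod 2), M.map (ι2 K) *ᵥ u = u → M *ᵥ v = v := by
  let _ := ZMod.algebra K 2
  obtain ⟨i, hi⟩ := Function.ne_iff.1 h
  obtain ⟨f, hf⟩ := not_forall.1 (mt (forall_dual_apply_eq_zero_iff (ZMod 2) (u i)).1 hi)
  refine ⟨f ∘ u, Function.ne_iff.2 ⟨i, hf⟩, fun M e => funext fun a => ?_⟩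
  rw [Function.comp, ← congrFun e a]
  simp only [mulVec, dotProduct, map_sum, map_apply]
  exact Finset.sum_congr rfl fun b _ => (f.map_smul (M a b) (u b)).symm.trans
    (congrArg f (Algebra.smul_def _ _))

/-- The contragredient representation. -/
def dual (ρ : X →* Mt (ZMod 2)) : X →* Mt (ZMod 2) where
  toFun g := (ρ g⁻¹)ᵀ
  map_one' := by simp
  map_mul' g h := by simp

theorem large' [Finite X] [IsSimpleGroup X] {n : Type*} [Fintype n] [DecidableEq n]
    (τ : X →* Matrix n n (ZMod 2)) (h6 : 6 < Nat.card X)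
    (f0 : ∀ v, (∀ g : X, τ g *ᵥ v = v) → v = 0) {H : Subgroup X} (hH : IsCoatom H)
    {S : Subgroup H} [S.Normal] {a e : ℕ} (hi : S.index ∣ 2 ^ a * 3 ^ e) (he : e ≤ 1)
    {u : n → ZMod 2} (h0 : u ≠ 0) (hu : ∀ g ∈ S, τ g *ᵥ u = u) :
    Nat.card X ≤ Nat.card H * Nat.card (n → ZMod 2) ^ (e + 1) :=
  let _ : DistribMulAction X (n → ZMod 2) := .compHom _
    ((toLinAlgEquiv' (R := ZMod 2)).toMulEquiv.toMonoidHom.comp τ)
  have k : ∀ (g : X) (v : n → ZMod 2), g • v = τ g *ᵥ v := fun g v => toLinAlgEquiv'_apply (τ g) v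
  large h6 (fun _ => funext fun _ => CharTwo.add_self_eq_zero _)
    (fun v hv => f0 v fun g => (k g v).symm.trans (hv g)) hH hi he h0
    fun g hg => (k g u).trans (hu g hg)

theorem card_W : Nat.card (Fin 56 → ZMod 2) = 2 ^ 56 := by
  have : ∀ n, Nat.card (Fin n → ZMod 2) = 2 ^ n := fun n => by simp
  exact this 56

theorem Dat.large [Finite X] [IsSimpleGroup X] (D : Dat K ρ) (h6 : 6 < Nat.card X)
    {H : Subgroup X} (hH : IsCoatom H) {S : Subgroup H} [S.Normal] {a e : ℕ}
    (hi : S.index ∣ 2 ^ a * 3 ^ e) (he : e ≤ 1) (h : Fix (rK K ρ) (S.map H.subtype)) :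
    Nat.card X ≤ Nat.card H * Nat.card (Fin 56 → ZMod 2) ^ (e + 1) := by
  have key : ∀ τ : X →* Mt (ZMod 2), (∀ v, (∀ g, τ g *ᵥ v = v) → v = 0) → ∀ u : Fin 56 → K, u ≠ 0 →
      (∀ g ∈ S, (τ g).map (ι2 K) *ᵥ u = u) →
      Nat.card X ≤ Nat.card H * Nat.card (Fin 56 → ZMod 2) ^ (e + 1) :=
    fun τ h1 u h2 h3 => by
      obtain ⟨v, h4, h5⟩ := descend h2
      exact large' τ h6 h1 hH hi he h4 fun g hg => h5 (τ g) (h3 g hg)
  rcases h with ⟨v, h0, h⟩ | ⟨φ, h0, h⟩
  · exact key ρ D.fix v h0 fun g hg => h _ ⟨g, hg, rfl⟩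
  · refine key (dual ρ) (fun v hv => D.fix' v fun g => by
      simpa [dual, mulVec_transpose] using hv g⁻¹) (fun i => φ (Pi.single i 1))
      (fun k => h0 ((Pi.basisFun K _).ext fun i => by simpa using congrFun k i)) fun g hg => ?_
    funext i
    rw [← h _ ⟨_, inv_mem hg, rfl⟩ (Pi.single i 1), rK_apply, φ.pi_apply_eq_sum_univ]
    unfold mulVec dotProduct
    refine Finset.sum_congr rfl fun j _ => ?_
    simp only [Pi.single_apply, mul_ite, mul_one, mul_zero, Finset.sum_ite_eq', Finset.mem_univ,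
      if_true, smul_eq_mul]
    exact congrArg _ (congrArg φ (funext fun k => by simp [Pi.single_apply, eq_comm]))

theorem fstar_idx {H S : Type*} [Group H] [Finite H] [Group S]
    (f : generalizedFittingSubgroup H ≃* S) :
    (generalizedFittingSubgroup H).index ∣ Nat.card (Out S) := by
  let φ : H →* Out S := (QuotientGroup.mk' _).comp
    ((MulAut.congr f).toMonoidHom.comp MulAut.conjNormal)
  have : φ.ker = generalizedFittingSubgroup H := by
    refine le_antisymm (fun g hg => ?_) fun g hg => ?_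
    · obtain ⟨s, hs⟩ := (QuotientGroup.eq_one_iff _).1 hg
      have : g * (f.symm s : H)⁻¹ ∈ _ := CF.Sig.centralizer_fstar_le fun x hx => by
        have := congrArg (fun α : MulAut S => (f.symm (α (f ((f.symm s)⁻¹ * ⟨x, hx⟩ * f.symm s))) : H))
          hs
        simp [mul_assoc] at this
        conv_lhs => rw [this]
        group
      simpa using mul_mem this (f.symm s).2
    · exact (QuotientGroup.eq_one_iff _).2 ⟨f ⟨g, hg⟩, MulEquiv.ext fun x => by
        obtain ⟨y, rfl⟩ := f.surjective x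
        rw [MulAut.conj_apply, ← map_inv, ← map_mul, ← map_mul]
        exact congrArg f (Subtype.ext (by simp))⟩
  rw [← this, index_ker]
  exact card_subgroup_dvd_card _

/-- The group. -/
abbrev G7 := chevE7.group (ZMod 2)

theorem card_g7 : Nat.card G7 = 7997476042075799759100487262680802918400 := by
  simpa using CF.Chev.cardE7 (ZMod 2) (Nat.card_zmod 2)

instance g7_fin : Finite G7 := Nat.finite_of_card_ne_zero (by rw [card_g7]; decide)

theorem Dat.no {ρ : G7 →* Mt (ZMod 2)} (D : Dat K ρ) {H : Subgroup G7} (hH : IsCoatom H)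
    {S : Type*} [Group S] {n o a e : ℕ} (hn : Nat.card S = n) (ho : Nat.card (Out S) = o)
    (h1 : o ∣ 2 ^ a * 3 ^ e) (he : e ≤ 1) (h0 : o ≠ 0)
    (h2 : n * o * (2 ^ 56) ^ (e + 1) < 7997476042075799759100487262680802918400)
    (h : ∀ j : S →* G7, Function.Injective j → Fix (rK K ρ) j.range) :
    IsEmpty (generalizedFittingSubgroup H ≃* S) := ⟨fun f => by
  have hc := card_g7
  have := (Cfsg.Agent.S1054.result (F := ZMod 2) chevE7 (by simp)).1
  have k := ho ▸ fstar_idx f
  have := D.large (by omega) hH (k.trans h1) he ((h ((H.subtype.comp (Subgroup.subtype _)).comp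
    f.symm.toMonoidHom) (Subtype.val_injective.comp (Subtype.val_injective.comp
      f.symm.injective))).mono (by rintro _ ⟨g, hg, rfl⟩; exact ⟨f ⟨g, hg⟩, by simp⟩))
  rw [card_W, hc, ← (generalizedFittingSubgroup H).card_mul_index, Nat.card_congr f.toEquiv, hn]
    at this
  exact (this.trans (Nat.mul_le_mul_right _ (Nat.mul_le_mul_left _
    (Nat.le_of_dvd (Nat.pos_of_ne_zero h0) k)))).not_gt h2⟩

theorem no_sub {X : Type*} [Group X] {H : Subgroup X} {S : Type*} [Group S]
    (h : ∀ j : S →* X, ¬ Function.Injective j) : IsEmpty (generalizedFittingSubgroup H ≃* S) :=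
  ⟨fun f => h ((H.subtype.comp (Subgroup.subtype _)).comp f.symm.toMonoidHom)
    (Subtype.val_injective.comp (Subtype.val_injective.comp f.symm.injective))⟩

end CF.E72
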