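import Cfsg.Agent.E72.F
import Cfsg.Agent.Comp.G24.Main
import Cfsg.Agent.Classical.Linear
import Cfsg.Agent.S1163
import Cfsg.Agent.S2126
import Cfsg.Agent.S2601

/-! The groups `L₃(4)`, `U₃(4)`, `Sz(8)`, `G₂(4)`, `L₃(16)`. -/

set_option autoImplicit false
set_option maxRecDepth 100000

namespace CF.E72

open CF.E83 CF.Comp CF.Spec Matrix Cfsg Cfsg.Lie

theorem f8 : FldOK 8 3 (nat_lit 0x5397721ab3e4c1de5688fac977053b3e21ade54c1fac688)
    (nat_lit 0x73157889d3f0cfa868356ee0467b98bcbd10fac688000000) := by decide +kernel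

/-- The field table. -/
noncomputable def T8 : Tab := tabT 8 3 (nat_lit 0x5397721ab3e4c1de5688fac977053b3e21ade54c1fac688)
  (nat_lit 0x73157889d3f0cfa868356ee0467b98bcbd10fac688000000)

theorem f16 : FldOK 16 4 (nat_lit 0x123456789abcdef1032547698badcfe23016745ab89efcd32107654ba98fedc45670123cdef89ab54761032dcfe98ba67452301efcdab8976543210fedcba9889abcdef0123456798badcfe10325476ab89efcd23016745ba98fedc32107654cdef89ab45670123dcfe98ba54761032efcdab8967452301fedcba9876543210)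
    (nat_lit 0xa5783ce1b4692df05ba48679c23d1fe07ae36bf258c149d0843fd16a2e957bc0386d92c74f1ae5b0c6b1285f394ed7a0e7f6c5d4a3b28190192a7f4cd5e6b380bc5243ad618f9e70428ef93517dbac6063c914be8d27fa509d15ae26fb73c8402147ed8b9afc5630df9b5713eca86420fedcba98765432100000000000000000) := by decide +kernel

/-- The field table. -/
noncomputable def T16 : Tab := tabT 16 4 (nat_lit 0x123456789abcdef1032547698badcfe23016745ab89efcd32107654ba98fedc45670123cdef89ab54761032dcfe98ba67452301efcdab8976543210fedcba9889abcdef0123456798badcfe10325476ab89efcd23016745ba98fedc32107654cdef89ab45670123dcfe98ba54761032efcdab8967452301fedcba9876543210)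
  (nat_lit 0xa5783ce1b4692df05ba48679c23d1fe07ae36bf258c149d0843fd16a2e957bc0386d92c74f1ae5b0c6b1285f394ed7a0e7f6c5d4a3b28190192a7f4cd5e6b380bc5243ad618f9e70428ef93517dbac6063c914be8d27fa509d15ae26fb73c8402147ed8b9afc5630df9b5713eca86420fedcba98765432100000000000000000)

/-- Data. -/
noncomputable def L0_0 : Net := (Net.cons (nat_lit 1) (nat_lit 327956) (Net.cons (nat_lit 2) (nat_lit 65552) (Net.cons (nat_lit 4) (nat_lit 256) (Net.cons (nat_lit 8) (nat_lit 16) (Net.cons (nat_lit 4) (nat_lit 66820) (Net.cons (nat_lit 2) (nat_lit 204850) (Net.cons (nat_lit 1) (nat_lit 327956) Net.nil)))))))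
/-- Data. -/
noncomputable def L0_1 : Net := (Net.cons (nat_lit 1) (nat_lit 283668) (Net.cons (nat_lit 2) (nat_lit 204800) (Net.cons (nat_lit 4) (nat_lit 2562) (Net.cons (nat_lit 8) (nat_lit 18) (Net.cons (nat_lit 16) (nat_lit 18) (Net.cons (nat_lit 8) (nat_lit 208) (Net.cons (nat_lit 4) (nat_lit 68878) (Net.cons (nat_lit 2) (nat_lit 34) (Net.cons (nat_lit 1) (nat_lit 262417) Net.nil)))))))))
/-- Data. -/
noncomputable def L0 : List Net := [L0_0, L0_1]
/-- Data. -/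
noncomputable def L1_0 : Net := (Net.cons (nat_lit 1) (nat_lit 283972) (Net.cons (nat_lit 2) (nat_lit 204817) (Net.cons (nat_lit 4) (nat_lit 66048) (Net.cons (nat_lit 8) (nat_lit 2) (Net.cons (nat_lit 16) (nat_lit 31) (Net.cons (nat_lit 8) (nat_lit 54) (Net.cons (nat_lit 4) (nat_lit 66061) (Net.cons (nat_lit 2) (nat_lit 139776) (Net.cons (nat_lit 1) (nat_lit 267588) Net.nil)))))))))
/-- Data. -/
noncomputable def L1_1 : Net := (Net.cons (nat_lit 1) (nat_lit 348245) (Net.cons (nat_lit 2) (nat_lit 143616) (Net.cons (nat_lit 4) (nat_lit 3592) (Net.cons (nat_lit 8) (nat_lit 8) (Net.cons (nat_lit 16) (nat_lit 26) (Net.cons (nat_lit 8) (nat_lit 52) (Net.cons (nat_lit 4) (nat_lit 3842) (Net.cons (nat_lit 2) (nat_lit 200960) (Net.cons (nat_lit 1) (nat_lit 279825) Net.nil)))))))))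
/-- Data. -/
noncomputable def L1_2 : Net := (Net.cons (nat_lit 1) (nat_lit 20820) (Net.cons (nat_lit 2) (nat_lit 17) (Net.cons (nat_lit 4) (nat_lit 3072) (Net.cons (nat_lit 8) (nat_lit 1) (Net.cons (nat_lit 16) (nat_lit 25) (Net.cons (nat_lit 8) (nat_lit 88) (Net.cons (nat_lit 4) (nat_lit 68104) (Net.cons (nat_lit 2) (nat_lit 70401) (Net.cons (nat_lit 1) (nat_lit 282880) Net.nil)))))))))
/-- Data. -/
noncomputable def L1_3 : Net := (Net.cons (nat_lit 1) (nat_lit 278784) (Net.cons (nat_lit 2) (nat_lit 4864) (Net.cons (nat_lit 4) (nat_lit 1802) (Net.cons (nat_lit 8) (nat_lit 1) (Net.cons (nat_lit 16) (nat_lit 15) (Net.cons (nat_lit 8) (nat_lit 159) (Net.cons (nat_lit 4) (nat_lit 2310) (Net.cons (nat_lit 2) (nat_lit 8496) (Net.cons (nat_lit 1) (nat_lit 345108) Net.nil)))))))))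
/-- Data. -/
noncomputable def L1_4 : Net := (Net.cons (nat_lit 1) (nat_lit 327684) (Net.cons (nat_lit 2) (nat_lit 8961) (Net.cons (nat_lit 4) (nat_lit 258) (Net.cons (nat_lit 8) (nat_lit 9) (Net.cons (nat_lit 16) (nat_lit 27) (Net.cons (nat_lit 8) (nat_lit 209) (Net.cons (nat_lit 4) (nat_lit 3083) (Net.cons (nat_lit 2) (nat_lit 135729) (Net.cons (nat_lit 1) (nat_lit 65540) Net.nil)))))))))
/-- Data. -/
noncomputable def L1_5 : Net := (Net.cons (nat_lit 1) (nat_lit 279632) (Net.cons (nat_lit 2) (nat_lit 73728) (Net.cons (nat_lit 4) (nat_lit 2560) (Net.cons (nat_lit 8) (nat_lit 1) (Net.cons (nat_lit 16) (nat_lit 1) (Net.cons (nat_lit 8) (nat_lit 177) (Net.cons (nat_lit 4) (nat_lit 68616) (Net.cons (nat_lit 2) (nat_lit 200720) (Net.cons (nat_lit 1) (nat_lit 332864) Net.nil)))))))))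
/-- Data. -/
noncomputable def L1 : List Net := [L1_0, L1_1, L1_2, L1_3, L1_4, L1_5]
/-- Data. -/
noncomputable def LW : List (List Nat) := [[(nat_lit 2), (nat_lit 4), (nat_lit 2), (nat_lit 3), (nat_lit 1), (nat_lit 3), (nat_lit 3), (nat_lit 1), (nat_lit 3), (nat_lit 3)],
  [(nat_lit 4), (nat_lit 2), (nat_lit 3), (nat_lit 1), (nat_lit 3)],
  [(nat_lit 7), (nat_lit 5), (nat_lit 8)],
  [(nat_lit 8), (nat_lit 6), (nat_lit 7), (nat_lit 5), (nat_lit 7), (nat_lit 5), (nat_lit 7)],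
  [(nat_lit 6), (nat_lit 8), (nat_lit 8), (nat_lit 6), (nat_lit 6), (nat_lit 8), (nat_lit 8), (nat_lit 8)],
  [(nat_lit 11), (nat_lit 14), (nat_lit 9), (nat_lit 12)]]
/-- Data. -/
noncomputable def LC : List Lvl := [⟨(nat_lit 1), [[(nat_lit 1)],
  [(nat_lit 3)]], (nat_lit 5)⟩,
  ⟨(nat_lit 0), [[(nat_lit 5)],
  [(nat_lit 7)]], (nat_lit 4)⟩,
  ⟨(nat_lit 2), [[(nat_lit 9)],
  [(nat_lit 11)],
  [(nat_lit 13)]], (nat_lit 2)⟩,
  ⟨(nat_lit 3), [[(nat_lit 15)]], (nat_lit 2)⟩]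
/-- Data. -/
noncomputable def LV : List (List Nat) := [[(nat_lit 1573126), (nat_lit 524025), (nat_lit 0), (nat_lit 0)],
  [(nat_lit 622609), (nat_lit 1075470), (nat_lit 394752), (nat_lit 4320)],
  [(nat_lit 16933), (nat_lit 1651712), (nat_lit 264528), (nat_lit 163978)]]
/-- Data. -/
noncomputable def LS : Net := (Net.cons (nat_lit 1) (nat_lit 327684) (Net.cons (nat_lit 2) (nat_lit 69904) (Net.cons (nat_lit 8) (nat_lit 4) (Net.cons (nat_lit 16) (nat_lit 14) (Net.cons (nat_lit 8) (nat_lit 67) (Net.cons (nat_lit 4) (nat_lit 66319) (Net.cons (nat_lit 2) (nat_lit 78642) (Net.cons (nat_lit 1) (nat_lit 87041) Net.nil))))))))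
/-- Data. -/
noncomputable def LCs : List (List Nat) := [[(nat_lit 0), (nat_lit 524281), (nat_lit 1048578), (nat_lit 524292)],
  [(nat_lit 0), (nat_lit 919041), (nat_lit 1075486), (nat_lit 102624)]]
/-- Data. -/
noncomputable def LA : List (List (List Nat)) := [[[1, 0, 0], [0, 2, 2], [0, 1, 2]],
  [[0, 3, 0], [1, 0, 1], [3, 1, 1]]]
/-- Data. -/
noncomputable def LD : List (List (List (List Nat))) := [[[[1, 0, 0], [0, 1, 0], [0, 3, 1]],
  [[1, 0, 0], [0, 2, 2], [0, 0, 3]]],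
 [[[1, 1, 0], [0, 1, 0], [0, 0, 1]],
  [[1, 0, 0], [1, 1, 0], [3, 1, 1]],
  [[1, 3, 1], [0, 3, 0], [0, 0, 2]]]]

theorem linL_a : linAll (tabQ 2 1 1) 21 3 LV LA L0 LCs 2 = true := by decide +kernel
theorem linL : LinOK (tabQ 2 1 1) 21 3 2 LV LA L0 :=
  ⟨⟨LS, by decide +kernel⟩, by decide +kernel, by decide +kernel, rfl,
    LCs, by decide +kernel, rfl, linAll_iff.1 linL_a⟩

theorem chL : ChainGe L0 L1 21 5 2 LW LC 20160 :=
  ⟨rfl, by decide, by decide, slp_of_slpOK (by decide +kernel), by decide +kernel, by decide +kernel,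
    by decide +kernel⟩

/-- Data. -/
noncomputable def Z0_0 : Net := (Net.cons (nat_lit 1) (nat_lit 0x1150000515114010) (Net.cons (nat_lit 2) (nat_lit 0x1220113203002120) (Net.cons (nat_lit 4) (nat_lit 0x90f000a0a0d0200) (Net.cons (nat_lit 8) (nat_lit 0xcb0089004b0000) (Net.cons (nat_lit 16) (nat_lit 0x804f00000000) (Net.cons (nat_lit 32) (nat_lit 1) (Net.cons (nat_lit 64) (nat_lit 1) (Net.cons (nat_lit 32) (nat_lit 2152660993) (Net.cons (nat_lit 16) (nat_lit 0xcedf00004b00) (Net.cons (nat_lit 8) (nat_lit 0x8f00f800ff0030) (Net.cons (nat_lit 4) (nat_lit 0xd02050b09020d0c) (Net.cons (nat_lit 2) (nat_lit 0x3121201113001210) (Net.cons (nat_lit 1) (nat_lit 0x1444505000441545) Net.nil)))))))))))))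
/-- Data. -/
noncomputable def Z0_1 : Net := (Net.cons (nat_lit 1) (nat_lit 0x4004154114055004) (Net.cons (nat_lit 2) (nat_lit 0x100012331001121) (Net.cons (nat_lit 4) (nat_lit 0xf030b0c05040901) (Net.cons (nat_lit 8) (nat_lit 0x39007900010000) (Net.cons (nat_lit 16) (nat_lit 0x408500000000) (Net.cons (nat_lit 32) (nat_lit 1) (Net.cons (nat_lit 64) (nat_lit 1) (Net.cons (nat_lit 32) (nat_lit 4203020289) (Net.cons (nat_lit 16) (nat_lit 0xfe8700007900) (Net.cons (nat_lit 8) (nat_lit 0xfc004a00fe00c1) (Net.cons (nat_lit 4) (nat_lit 0x1090a000b0e08) (Net.cons (nat_lit 2) (nat_lit 0x1000121130122032) (Net.cons (nat_lit 1) (nat_lit 0x4401504500411440) Net.nil)))))))))))))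
/-- Data. -/
noncomputable def Z0 : List Net := [Z0_0, Z0_1]
/-- Data. -/
noncomputable def Z1_0 : Net := (Net.cons (nat_lit 1) (nat_lit 0x1415410154110500) (Net.cons (nat_lit 2) (nat_lit 0x3132201320203210) (Net.cons (nat_lit 4) (nat_lit 0xa0a0609090b0100) (Net.cons (nat_lit 8) (nat_lit 0x2a000000310000) (Net.cons (nat_lit 16) (nat_lit 0xcc100000001) (Net.cons (nat_lit 64) (nat_lit 1) (Net.cons (nat_lit 32) (nat_lit 807444221) (Net.cons (nat_lit 16) (nat_lit 0xd7a80000872f) (Net.cons (nat_lit 8) (nat_lit 0x7600ac00cd0056) (Net.cons (nat_lit 4) (nat_lit 0xb07030e0e0a000e) (Net.cons (nat_lit 2) (nat_lit 0x233120033022110) (Net.cons (nat_lit 1) (nat_lit 0x1541410540051544) Net.nil))))))))))))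
/-- Data. -/
noncomputable def Z1_1 : Net := (Net.cons (nat_lit 1) (nat_lit 0x5444144140010405) (Net.cons (nat_lit 2) (nat_lit 0x2123030212030200) (Net.cons (nat_lit 4) (nat_lit 0x80600080d0f0701) (Net.cons (nat_lit 8) (nat_lit 0x5400a700210001) (Net.cons (nat_lit 16) (nat_lit 0xb0e900000001) (Net.cons (nat_lit 64) (nat_lit 1) (Net.cons (nat_lit 32) (nat_lit 991463397) (Net.cons (nat_lit 16) (nat_lit 0x12be0000838d) (Net.cons (nat_lit 8) (nat_lit 0xd000ec002f0055) (Net.cons (nat_lit 4) (nat_lit 0x805070b0f000f09) (Net.cons (nat_lit 2) (nat_lit 0x2120030202131330) (Net.cons (nat_lit 1) (nat_lit 0x1440145555545105) Net.nil))))))))))))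
/-- Data. -/
noncomputable def Z1_2 : Net := (Net.cons (nat_lit 1) (nat_lit 0x104044411455054) (Net.cons (nat_lit 2) (nat_lit 0x23102222201310) (Net.cons (nat_lit 4) (nat_lit 0xb0c0d0105040a01) (Net.cons (nat_lit 8) (nat_lit 0x3500120001) (Net.cons (nat_lit 16) (nat_lit 0x3c4100000001) (Net.cons (nat_lit 64) (nat_lit 1) (Net.cons (nat_lit 32) (nat_lit 1188526764) (Net.cons (nat_lit 16) (nat_lit 0x42600000a3e9) (Net.cons (nat_lit 8) (nat_lit 0x6c002b002a00a8) (Net.cons (nat_lit 4) (nat_lit 0x20406000d090a09) (Net.cons (nat_lit 2) (nat_lit 0x1011213010333210) (Net.cons (nat_lit 1) (nat_lit 0x1511015150014510) Net.nil))))))))))))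
/-- Data. -/
noncomputable def Z1 : List Net := [Z1_0, Z1_1, Z1_2]
/-- Data. -/
noncomputable def ZW : List (List Nat) := [[(nat_lit 2), (nat_lit 3), (nat_lit 1), (nat_lit 4), (nat_lit 1), (nat_lit 4), (nat_lit 1), (nat_lit 4)],
  [(nat_lit 2), (nat_lit 4), (nat_lit 4), (nat_lit 2), (nat_lit 4), (nat_lit 1), (nat_lit 3), (nat_lit 1), (nat_lit 3), (nat_lit 3), (nat_lit 3), (nat_lit 1), (nat_lit 1)],
  [(nat_lit 6), (nat_lit 6), (nat_lit 7), (nat_lit 7)]]
/-- Data. -/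
noncomputable def ZC : List Lvl := [⟨(nat_lit 0), [[(nat_lit 1)],
  [(nat_lit 3)]], (nat_lit 6)⟩,
  ⟨(nat_lit 1), [[(nat_lit 5)],
  [(nat_lit 7)]], (nat_lit 5)⟩,
  ⟨(nat_lit 2), [[(nat_lit 9)]], (nat_lit 6)⟩]
/-- Data. -/
noncomputable def ZV : List (List Nat) := [[(nat_lit 0x8000000000000), (nat_lit 0x1fff7ffffffffffff), (nat_lit 0), (nat_lit 0), (nat_lit 0), (nat_lit 0), (nat_lit 0), (nat_lit 0)],
  [(nat_lit 0x540a100000008401), (nat_lit 0x20b10001050), (nat_lit 0x200a00043080002), (nat_lit 0x2820000004012804), (nat_lit 0x100008008a20208), (nat_lit 0x18014002480000100), (nat_lit 0x80455000100080), (nat_lit 0x41080020444020)],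
  [(nat_lit 0x2008400082241001), (nat_lit 0x32004801000220), (nat_lit 0x11001801010022000), (nat_lit 0x40c0008090440), (nat_lit 0x4000212000004818), (nat_lit 0xc00000100c00182), (nat_lit 0x8300020024108000), (nat_lit 0xc0108640000004)],
  [(nat_lit 1), (nat_lit 0x80e080c00401004), (nat_lit 0x40c0003080020220), (nat_lit 0x400428204000888), (nat_lit 0x202140200d8000), (nat_lit 0x18000140052100040), (nat_lit 0x3310000001802100), (nat_lit 0x1800108204412)]]
/-- Data. -/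
noncomputable def ZS : Net := (Net.cons (nat_lit 1) (nat_lit 0x4114115440055554) (Net.cons (nat_lit 2) (nat_lit 0x3333231203210200) (Net.cons (nat_lit 4) (nat_lit 0x206040004040601) (Net.cons (nat_lit 8) (nat_lit 0xfa001200420000) (Net.cons (nat_lit 16) (nat_lit 0x695900000001) (Net.cons (nat_lit 32) (nat_lit 1) (Net.cons (nat_lit 64) (nat_lit 1) (Net.cons (nat_lit 32) (nat_lit 2604693178) (Net.cons (nat_lit 16) (nat_lit 0xaff400003b1d) (Net.cons (nat_lit 8) (nat_lit 0x52005300ae00f0) (Net.cons (nat_lit 4) (nat_lit 0x80609060305050b) (Net.cons (nat_lit 2) (nat_lit 0x1323030212000010) (Net.cons (nat_lit 1) (nat_lit 0x5111051514554110) Net.nil)))))))))))))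
/-- Data. -/
noncomputable def ZCs : List (List Nat) := [[(nat_lit 0), (nat_lit 0x2001130510400), (nat_lit 0x440100083004900), (nat_lit 0x108a1040408800020), (nat_lit 0x101000220002100d), (nat_lit 0x1008a08002c2000), (nat_lit 0x6208418040008200), (nat_lit 0x80042040040000d2)],
  [(nat_lit 0), (nat_lit 0x1005000004c18008), (nat_lit 0x40a02408061040), (nat_lit 0x2890000200200290), (nat_lit 0x84020e4100004000), (nat_lit 0x108118000180502), (nat_lit 0x10220401022000820), (nat_lit 0x40000008d1002005)]]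
/-- Data. -/
noncomputable def ZA : List (List (List Nat)) := [[[7, 3, 5, 3], [5, 4, 0, 5], [6, 3, 4, 3], [3, 6, 5, 7]],
  [[4, 3, 1, 2], [7, 0, 0, 6], [1, 4, 7, 1], [4, 4, 3, 2]]]
/-- Data. -/
noncomputable def ZD : List (List (List (List Nat))) := [[[[1, 0, 0, 0], [2, 1, 0, 0], [5, 6, 1, 0], [7, 2, 2, 1]],
  [[7, 3, 5, 3], [0, 2, 1, 3], [0, 0, 5, 6], [0, 0, 0, 4]]],
 [[[1, 0, 0, 0], [3, 1, 0, 0], [7, 7, 1, 0], [1, 5, 3, 1]],
  [[4, 3, 1, 2], [0, 5, 3, 0], [0, 0, 2, 4], [0, 0, 0, 7]]]]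

theorem linZ_a : linAll T8 65 4 ZV ZA Z0 ZCs 2 = true := by decide +kernel
theorem linZ : LinOK T8 65 4 2 ZV ZA Z0 :=
  ⟨⟨ZS, by decide +kernel⟩, by decide +kernel, by decide +kernel, rfl,
    ZCs, by decide +kernel, rfl, linAll_iff.1 linZ_a⟩

theorem chZ : ChainGe Z0 Z1 65 7 2 ZW ZC 29120 :=
  ⟨rfl, by decide, by decide, slp_of_slpOK (by decide +kernel), by decide +kernel, by decide +kernel,
    by decide +kernel⟩

/-- Matrices. -/
def m16 : List (List (List ℕ)) :=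
  [[[1, 0, 0], [0, 1, 0], [0, 0, 1]], [[0, 0, 1], [1, 0, 0], [0, 1, 0]], [[0, 1, 0], [0, 0, 1], [1,
  0, 0]], [[8, 0, 0], [0, 15, 0], [0, 0, 1]], [[15, 0, 0], [0, 8, 0], [0, 0, 1]], [[1, 0, 0], [0, 8,
  0], [0, 0, 15]], [[1, 0, 0], [0, 15, 0], [0, 0, 8]], [[0, 1, 0], [1, 0, 0], [0, 0, 1]], [[0, 1,
  0], [1, 0, 0], [0, 0, 1]]]

/-- Factorizations. -/
def d16 : List (List (List (List ℕ))) :=
  [[], [[[1, 1, 1], [0, 1, 1], [0, 0, 1]], [[1, 0, 0], [1, 1, 0], [0, 1, 1]], [[1, 0, 1], [0, 1, 1],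
  [0, 0, 1]]], [], [[[8, 0, 0], [0, 15, 0], [0, 0, 1]]], [], [[[1, 0, 0], [0, 8, 0], [0, 0, 15]]],
  [], [[[1, 1, 0], [0, 1, 0], [0, 0, 1]], [[1, 0, 0], [1, 1, 0], [0, 0, 1]], [[1, 1, 0], [0, 1, 0],
  [0, 0, 1]]], []]

theorem card_of_ker {A B : Type*} [Group A] [Group B] {φ : A →* B} (h : Function.Surjective φ) :
    Nat.card A = Nat.card φ.ker * Nat.card B := by
  rw [← φ.ker.card_mul_index, Subgroup.index_ker, MonoidHom.range_eq_top.2 h, Subgroup.card_top]

variable {K : Type*} [Field K] [CharP K 2] {ρ : G7 →* Mt (ZMod 2)} (D : Dat K ρ)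
  {H : Subgroup G7} {F : Type*} [Field F] [Fintype F]
include D

theorem Dat.l34 (hH : IsCoatom H) (hF : Fintype.card F = 4) :
    IsEmpty (generalizedFittingSubgroup H ≃* ProjectiveSpecialLinearGroup (Fin 3) F) := by
  obtain ⟨el, hT⟩ := exists_ok_four hF
  have hc : Nat.card (ProjectiveSpecialLinearGroup (Fin 3) F) = 20160 := by
    have := CF.Classical.card_PSL_fin (F := F) 3 (by decide)
    rw [hF, Fin.prod_univ_three] at this
    norm_num at this
    omega
  obtain ⟨φ, h1, -, h2⟩ := Cfsg.Agent.S2601.result (p := 2) (f := 2) (n := 3) (by decide) hF le_rfl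
  exact D.no hH (o := 12) (a := 2) (e := 1) hc (by rw [card_of_ker h1, h2]; simp) (by decide) le_rfl
    (by decide) (by decide) (D.g255 (g255_of chL (linL.hasReps_PSL hT (Ds := LD)
      (by decide +kernel)) hc (by decide +kernel)))

theorem Dat.sz8 (hH : IsCoatom H) (hF : Fintype.card F = 8) :
    IsEmpty (generalizedFittingSubgroup H ≃* Lie.Sz F 4) := by
  obtain ⟨el, hT⟩ := exists_ok_tab f8 hF
  have hc : Nat.card (Lie.Sz F 4) = 29120 := (Cfsg.Agent.S1163.result (m := 1) le_rfl hF).1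
  exact D.no hH (o := 3) (a := 0) (e := 1) hc (Cfsg.Agent.S2126.result (m := 1) le_rfl hF)
    (by decide) le_rfl (by decide) (by decide) (D.g255 (g255_of chZ (linZ.hasReps hT (.refl _) _
      fun i hi => exists_sz hT (tabT_tot _ _ _ (by decide)) (allFrom_zero.1 (show allFrom
        (fun i => szAt T8 4 (nth [] ZA i)) 0 2 by decide +kernel) i hi)) hc (by decide +kernel)))

theorem Dat.u34 (hF : Fintype.card F = 16) :
    IsEmpty (generalizedFittingSubgroup H ≃* PSU 3 F 4) := by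
  obtain ⟨el, hT⟩ := exists_ok_tab f16 hF
  obtain ⟨f, c⟩ := ck_psu hT (q := 4) hF (d := 3) (m := 4) (Ms := m16) (Ds := d16)
    (by decide +kernel)
  exact no_sub (D.h25 (h25_of c [3] [5] [1] [7] (by decide +kernel)))

theorem Dat.l316 (hF : Fintype.card F = 16) :
    IsEmpty (generalizedFittingSubgroup H ≃* ProjectiveSpecialLinearGroup (Fin 3) F) := by
  obtain ⟨el, hT⟩ := exists_ok_tab f16 hF
  obtain ⟨f, c⟩ := ck_psl hT (d := 3) (m := 4) (Ms := m16) (Ds := d16) (by decide +kernel)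
  exact no_sub (D.h25 (h25_of c [3] [5] [1] [7] (by decide +kernel)))

theorem Dat.g24 (hF : Fintype.card F = 4) :
    IsEmpty (generalizedFittingSubgroup H ≃* chevG2.group F) := by
  obtain ⟨_, _, _, f, h⟩ := G24.exists_exact F hF
  exact no_sub (D.h25 (h25_of (ck_of_exact (k := 9) h.reps h.faithful (by decide) (by decide))
    [19, 35, 49, 23] [37, 33, 20] [21, 37, 51] [29, 46, 19, 29] (by decide +kernel)))

end CF.E72
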