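import Cfsg.Agent.E72.I
import Cfsg.Agent.Comp.ChevM

/-! The groups `G₂(3)` and `Ω₇(3)`. -/

set_option autoImplicit false
set_option maxRecDepth 100000

namespace CF.E72

open CF.E83 CF.Comp Matrix Cfsg Cfsg.Lie

/-- The generators. -/
def Gg : T4 (List ℕ) :=
  ([9], [11], [13], [15])

/-- The automizer. -/
def GM : List (List ℕ × T4 (T4 ℕ)) :=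
  [([1], (1, 0, 0, 0), (0, 1, 0, 0), (0, 0, 1, 1), (0, 0, 0, 1)), ([3], (1, 1, 0, 0), (0, 1, 0, 0),
  (0, 0, 1, 0), (0, 0, 0, 1)), ([1, 6, 1, 1, 6, 1], (2, 0, 0, 0), (0, 1, 0, 0), (0, 0, 2, 0), (0, 0,
  0, 2)), ([3, 8, 3, 3, 8, 3], (2, 0, 0, 0), (0, 2, 0, 0), (0, 0, 2, 0), (0, 0, 0, 1))]

/-- Fusion. -/
def GF : List (List ℕ × T4 ℕ × T4 ℕ) :=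
  [([8, 3], (1, 0, 0, 0), (0, 1, 0, 0)), ([6, 1], (0, 0, 1, 0), (0, 0, 0, 1)), ([8, 3], (1, 0, 0,
  1), (0, 1, 0, 1)), ([2, 5, 8, 3], (1, 0, 0, 1), (0, 1, 1, 0))]

/-- Representatives. -/
def GR : List (T4 ℕ) :=
  [(1, 0, 0, 0), (0, 0, 1, 0), (1, 0, 1, 0), (1, 0, 0, 1), (1, 0, 2, 0)]

/-- A subgroup. -/
def GT0 : List (T4 ℕ × List (List ℕ)) :=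
  [((1, 0, 0, 0), [[], [1], [1, 1]]), ((0, 1, 0, 0), [[]]), ((0, 0, 1, 0), [[], [0], [0, 0]]), ((0,
  0, 0, 1), [[]]), ((1, 0, 1, 0), [[], [1], [0], [1, 1], [1, 0], [0, 0], [1, 1, 0], [1, 0, 0], [1,
  1, 0, 0]]), ((1, 0, 0, 1), [[], [1], [3], [1, 1], [3, 1], [3, 1, 1]]), ((0, 1, 1, 0), [[], [2],
  [0], [2, 0, 0], [0, 0], [2, 0]]), ((0, 1, 0, 1), [[], [2]]), ((1, 0, 2, 0), [[], [1], [0, 0], [1,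
  1], [1, 0, 0], [0], [1, 1, 0, 0], [1, 0], [1, 1, 0]])]

/-- A subgroup. -/
def GT1 : List (T4 ℕ × List (List ℕ)) :=
  [((1, 0, 0, 0), [[]]), ((0, 0, 1, 0), [[]]), ((1, 0, 1, 0), [[], [1, 0], [1, 1, 0, 0]]), ((1, 0,
  0, 1), [[1], [3, 1, 1]]), ((0, 1, 1, 0), [[0], [2, 0, 0]]), ((0, 1, 0, 1), [[]]), ((1, 0, 2, 0),
  [[], [1, 0, 0], [1, 1, 0]])]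

/-- A subgroup. -/
def GT2 : List (T4 ℕ × List (List ℕ)) :=
  [((1, 0, 0, 0), [[]]), ((0, 0, 1, 0), [[]]), ((1, 0, 1, 0), [[]]), ((1, 0, 2, 0), [[]])]

/-- A subgroup. -/
def GT3 : List (T4 ℕ × List (List ℕ)) :=
  [((0, 0, 1, 0), [[], [0], [0, 0]]), ((0, 0, 0, 1), [[]])]

/-- A subgroup. -/
def GT4 : List (T4 ℕ × List (List ℕ)) :=
  [((1, 0, 0, 0), [[], [1], [1, 1]]), ((0, 1, 0, 0), [[]])]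

/-- Root elements. -/
def G14 : List (List (List ℕ)) :=
  [[[1, 0, 0, 0, 0, 0, 0, 0, 0, 0, 0, 0, 0, 0], [0, 1, 0, 0, 0, 0, 0, 0, 0, 0, 0, 0, 0, 0], [0, 0,
  1, 0, 0, 0, 0, 0, 0, 0, 0, 0, 0, 0], [0, 0, 0, 1, 0, 0, 0, 0, 0, 0, 0, 0, 0, 0], [0, 0, 0, 0, 1,
  0, 0, 0, 0, 0, 0, 0, 0, 0], [0, 0, 0, 0, 0, 1, 0, 0, 0, 0, 0, 0, 0, 0], [0, 0, 0, 0, 0, 0, 1, 0,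
  0, 0, 0, 0, 0, 0], [0, 0, 0, 0, 0, 0, 0, 1, 0, 0, 0, 0, 0, 0], [0, 0, 0, 0, 0, 0, 0, 0, 1, 0, 0,
  0, 0, 0], [0, 0, 0, 0, 0, 0, 0, 0, 0, 1, 0, 0, 0, 0], [0, 0, 0, 0, 0, 0, 0, 0, 0, 0, 1, 0, 0, 0],
  [0, 0, 0, 0, 0, 0, 0, 0, 0, 0, 0, 1, 0, 0], [0, 0, 0, 0, 0, 0, 0, 0, 0, 0, 0, 0, 1, 0], [0, 0, 0,
  0, 0, 0, 0, 0, 0, 0, 0, 0, 0, 1]], [[1, 0, 0, 0, 0, 0, 1, 0, 0, 0, 0, 0, 0, 0], [0, 1, 0, 0, 0, 0,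
  0, 0, 0, 0, 0, 0, 0, 0], [0, 0, 1, 0, 0, 0, 0, 0, 0, 0, 0, 0, 0, 0], [0, 0, 0, 1, 0, 0, 0, 0, 0,
  0, 0, 0, 0, 0], [0, 0, 0, 2, 1, 0, 0, 0, 0, 0, 0, 0, 0, 0], [0, 0, 0, 2, 2, 1, 0, 0, 0, 0, 0, 0,
  0, 0], [0, 0, 0, 0, 0, 0, 1, 0, 0, 0, 0, 0, 0, 0], [0, 0, 0, 2, 0, 0, 0, 1, 0, 0, 0, 0, 0, 0], [0,
  0, 0, 0, 0, 0, 0, 0, 1, 0, 0, 0, 0, 0], [1, 1, 0, 0, 0, 0, 2, 0, 0, 1, 0, 0, 0, 0], [0, 0, 0, 0,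
  0, 0, 0, 0, 2, 0, 1, 0, 0, 0], [0, 0, 0, 0, 0, 0, 0, 0, 1, 0, 1, 1, 0, 0], [0, 0, 0, 0, 0, 0, 0,
  0, 1, 0, 0, 0, 1, 0], [0, 0, 0, 0, 0, 0, 0, 0, 0, 0, 0, 0, 0, 1]], [[1, 0, 0, 0, 0, 0, 2, 0, 0, 0,
  0, 0, 0, 0], [0, 1, 0, 0, 0, 0, 0, 0, 0, 0, 0, 0, 0, 0], [0, 0, 1, 0, 0, 0, 0, 0, 0, 0, 0, 0, 0,
  0], [0, 0, 0, 1, 0, 0, 0, 0, 0, 0, 0, 0, 0, 0], [0, 0, 0, 1, 1, 0, 0, 0, 0, 0, 0, 0, 0, 0], [0, 0,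
  0, 2, 1, 1, 0, 0, 0, 0, 0, 0, 0, 0], [0, 0, 0, 0, 0, 0, 1, 0, 0, 0, 0, 0, 0, 0], [0, 0, 0, 1, 0,
  0, 0, 1, 0, 0, 0, 0, 0, 0], [0, 0, 0, 0, 0, 0, 0, 0, 1, 0, 0, 0, 0, 0], [2, 2, 0, 0, 0, 0, 2, 0,
  0, 1, 0, 0, 0, 0], [0, 0, 0, 0, 0, 0, 0, 0, 1, 0, 1, 0, 0, 0], [0, 0, 0, 0, 0, 0, 0, 0, 1, 0, 2,
  1, 0, 0], [0, 0, 0, 0, 0, 0, 0, 0, 2, 0, 0, 0, 1, 0], [0, 0, 0, 0, 0, 0, 0, 0, 0, 0, 0, 0, 0, 1]],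
  [[1, 0, 0, 0, 0, 0, 0, 0, 0, 0, 0, 0, 0, 0], [0, 1, 0, 0, 0, 0, 0, 1, 0, 0, 0, 0, 0, 0], [0, 0, 1,
  0, 0, 0, 0, 0, 0, 0, 0, 0, 0, 0], [0, 0, 2, 1, 0, 0, 0, 0, 0, 0, 0, 0, 0, 0], [0, 0, 0, 0, 1, 0,
  0, 0, 0, 0, 0, 0, 0, 0], [0, 0, 0, 0, 0, 1, 0, 0, 0, 0, 0, 0, 0, 0], [0, 0, 0, 0, 0, 2, 1, 0, 0,
  0, 0, 0, 0, 0], [0, 0, 0, 0, 0, 0, 0, 1, 0, 0, 0, 0, 0, 0], [0, 1, 0, 0, 0, 0, 0, 2, 1, 0, 0, 0,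
  0, 0], [0, 0, 0, 0, 0, 0, 0, 0, 0, 1, 0, 0, 0, 0], [0, 0, 0, 0, 0, 0, 0, 0, 0, 1, 1, 0, 0, 0], [0,
  0, 0, 0, 0, 0, 0, 0, 0, 0, 0, 1, 0, 0], [0, 0, 0, 0, 0, 0, 0, 0, 0, 0, 0, 0, 1, 0], [0, 0, 0, 0,
  0, 0, 0, 0, 0, 0, 0, 0, 1, 1]], [[1, 0, 0, 0, 0, 0, 0, 0, 0, 0, 0, 0, 0, 0], [0, 1, 0, 0, 0, 0, 0,
  2, 0, 0, 0, 0, 0, 0], [0, 0, 1, 0, 0, 0, 0, 0, 0, 0, 0, 0, 0, 0], [0, 0, 1, 1, 0, 0, 0, 0, 0, 0,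
  0, 0, 0, 0], [0, 0, 0, 0, 1, 0, 0, 0, 0, 0, 0, 0, 0, 0], [0, 0, 0, 0, 0, 1, 0, 0, 0, 0, 0, 0, 0,
  0], [0, 0, 0, 0, 0, 1, 1, 0, 0, 0, 0, 0, 0, 0], [0, 0, 0, 0, 0, 0, 0, 1, 0, 0, 0, 0, 0, 0], [0, 2,
  0, 0, 0, 0, 0, 2, 1, 0, 0, 0, 0, 0], [0, 0, 0, 0, 0, 0, 0, 0, 0, 1, 0, 0, 0, 0], [0, 0, 0, 0, 0,
  0, 0, 0, 0, 2, 1, 0, 0, 0], [0, 0, 0, 0, 0, 0, 0, 0, 0, 0, 0, 1, 0, 0], [0, 0, 0, 0, 0, 0, 0, 0,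
  0, 0, 0, 0, 1, 0], [0, 0, 0, 0, 0, 0, 0, 0, 0, 0, 0, 0, 2, 1]], [[1, 0, 0, 0, 0, 0, 0, 0, 0, 2, 0,
  0, 0, 0], [0, 1, 0, 0, 0, 0, 0, 0, 0, 0, 0, 0, 0, 0], [0, 0, 1, 0, 0, 0, 0, 0, 0, 0, 0, 0, 0, 0],
  [0, 0, 0, 1, 0, 0, 0, 2, 0, 0, 0, 0, 0, 0], [0, 0, 0, 0, 1, 2, 0, 1, 0, 0, 0, 0, 0, 0], [0, 0, 0,
  0, 0, 1, 0, 1, 0, 0, 0, 0, 0, 0], [2, 2, 0, 0, 0, 0, 1, 0, 0, 2, 0, 0, 0, 0], [0, 0, 0, 0, 0, 0,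
  0, 1, 0, 0, 0, 0, 0, 0], [0, 0, 0, 0, 0, 0, 0, 0, 1, 0, 0, 0, 1, 0], [0, 0, 0, 0, 0, 0, 0, 0, 0,
  1, 0, 0, 0, 0], [0, 0, 0, 0, 0, 0, 0, 0, 0, 0, 1, 1, 2, 0], [0, 0, 0, 0, 0, 0, 0, 0, 0, 0, 0, 1,
  1, 0], [0, 0, 0, 0, 0, 0, 0, 0, 0, 0, 0, 0, 1, 0], [0, 0, 0, 0, 0, 0, 0, 0, 0, 0, 0, 0, 0, 1]],
  [[1, 0, 0, 0, 0, 0, 0, 0, 0, 1, 0, 0, 0, 0], [0, 1, 0, 0, 0, 0, 0, 0, 0, 0, 0, 0, 0, 0], [0, 0, 1,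
  0, 0, 0, 0, 0, 0, 0, 0, 0, 0, 0], [0, 0, 0, 1, 0, 0, 0, 1, 0, 0, 0, 0, 0, 0], [0, 0, 0, 0, 1, 1,
  0, 1, 0, 0, 0, 0, 0, 0], [0, 0, 0, 0, 0, 1, 0, 2, 0, 0, 0, 0, 0, 0], [1, 1, 0, 0, 0, 0, 1, 0, 0,
  2, 0, 0, 0, 0], [0, 0, 0, 0, 0, 0, 0, 1, 0, 0, 0, 0, 0, 0], [0, 0, 0, 0, 0, 0, 0, 0, 1, 0, 0, 0,
  2, 0], [0, 0, 0, 0, 0, 0, 0, 0, 0, 1, 0, 0, 0, 0], [0, 0, 0, 0, 0, 0, 0, 0, 0, 0, 1, 2, 2, 0], [0,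
  0, 0, 0, 0, 0, 0, 0, 0, 0, 0, 1, 2, 0], [0, 0, 0, 0, 0, 0, 0, 0, 0, 0, 0, 0, 1, 0], [0, 0, 0, 0,
  0, 0, 0, 0, 0, 0, 0, 0, 0, 1]], [[1, 0, 0, 0, 0, 0, 0, 0, 0, 0, 0, 0, 0, 0], [0, 1, 0, 0, 0, 0, 0,
  0, 2, 0, 0, 0, 0, 0], [0, 0, 1, 2, 0, 0, 0, 0, 0, 0, 0, 0, 0, 0], [0, 0, 0, 1, 0, 0, 0, 0, 0, 0,
  0, 0, 0, 0], [0, 0, 0, 0, 1, 0, 0, 0, 0, 0, 0, 0, 0, 0], [0, 0, 0, 0, 0, 1, 2, 0, 0, 0, 0, 0, 0,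
  0], [0, 0, 0, 0, 0, 0, 1, 0, 0, 0, 0, 0, 0, 0], [0, 2, 0, 0, 0, 0, 0, 1, 2, 0, 0, 0, 0, 0], [0, 0,
  0, 0, 0, 0, 0, 0, 1, 0, 0, 0, 0, 0], [0, 0, 0, 0, 0, 0, 0, 0, 0, 1, 1, 0, 0, 0], [0, 0, 0, 0, 0,
  0, 0, 0, 0, 0, 1, 0, 0, 0], [0, 0, 0, 0, 0, 0, 0, 0, 0, 0, 0, 1, 0, 0], [0, 0, 0, 0, 0, 0, 0, 0,
  0, 0, 0, 0, 1, 1], [0, 0, 0, 0, 0, 0, 0, 0, 0, 0, 0, 0, 0, 1]], [[1, 0, 0, 0, 0, 0, 0, 0, 0, 0, 0,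
  0, 0, 0], [0, 1, 0, 0, 0, 0, 0, 0, 1, 0, 0, 0, 0, 0], [0, 0, 1, 1, 0, 0, 0, 0, 0, 0, 0, 0, 0, 0],
  [0, 0, 0, 1, 0, 0, 0, 0, 0, 0, 0, 0, 0, 0], [0, 0, 0, 0, 1, 0, 0, 0, 0, 0, 0, 0, 0, 0], [0, 0, 0,
  0, 0, 1, 1, 0, 0, 0, 0, 0, 0, 0], [0, 0, 0, 0, 0, 0, 1, 0, 0, 0, 0, 0, 0, 0], [0, 1, 0, 0, 0, 0,
  0, 1, 2, 0, 0, 0, 0, 0], [0, 0, 0, 0, 0, 0, 0, 0, 1, 0, 0, 0, 0, 0], [0, 0, 0, 0, 0, 0, 0, 0, 0,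
  1, 2, 0, 0, 0], [0, 0, 0, 0, 0, 0, 0, 0, 0, 0, 1, 0, 0, 0], [0, 0, 0, 0, 0, 0, 0, 0, 0, 0, 0, 1,
  0, 0], [0, 0, 0, 0, 0, 0, 0, 0, 0, 0, 0, 0, 1, 2], [0, 0, 0, 0, 0, 0, 0, 0, 0, 0, 0, 0, 0, 1]],
  [[1, 0, 0, 1, 0, 0, 0, 0, 0, 0, 0, 0, 0, 0], [0, 1, 0, 1, 0, 0, 0, 0, 0, 0, 0, 0, 0, 0], [0, 0, 1,
  0, 0, 0, 0, 0, 0, 0, 0, 0, 0, 0], [0, 0, 0, 1, 0, 0, 0, 0, 0, 0, 0, 0, 0, 0], [0, 0, 0, 0, 1, 0,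
  0, 0, 0, 0, 0, 0, 0, 0], [0, 0, 0, 0, 0, 1, 0, 0, 0, 0, 0, 0, 0, 0], [0, 0, 0, 0, 0, 0, 1, 0, 0,
  0, 0, 0, 0, 0], [0, 0, 1, 0, 0, 0, 0, 1, 0, 0, 0, 0, 0, 0], [0, 0, 0, 0, 0, 0, 0, 0, 1, 0, 0, 0,
  0, 0], [0, 0, 0, 0, 1, 0, 0, 0, 0, 1, 0, 0, 0, 0], [0, 0, 0, 0, 0, 0, 0, 0, 0, 0, 1, 0, 0, 0], [0,
  0, 0, 0, 0, 0, 2, 0, 0, 0, 0, 1, 0, 0], [0, 1, 0, 2, 0, 0, 0, 0, 0, 0, 0, 0, 1, 0], [0, 0, 0, 0,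
  0, 0, 0, 0, 2, 0, 0, 0, 0, 1]], [[1, 0, 0, 2, 0, 0, 0, 0, 0, 0, 0, 0, 0, 0], [0, 1, 0, 2, 0, 0, 0,
  0, 0, 0, 0, 0, 0, 0], [0, 0, 1, 0, 0, 0, 0, 0, 0, 0, 0, 0, 0, 0], [0, 0, 0, 1, 0, 0, 0, 0, 0, 0,
  0, 0, 0, 0], [0, 0, 0, 0, 1, 0, 0, 0, 0, 0, 0, 0, 0, 0], [0, 0, 0, 0, 0, 1, 0, 0, 0, 0, 0, 0, 0,
  0], [0, 0, 0, 0, 0, 0, 1, 0, 0, 0, 0, 0, 0, 0], [0, 0, 2, 0, 0, 0, 0, 1, 0, 0, 0, 0, 0, 0], [0, 0,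
  0, 0, 0, 0, 0, 0, 1, 0, 0, 0, 0, 0], [0, 0, 0, 0, 2, 0, 0, 0, 0, 1, 0, 0, 0, 0], [0, 0, 0, 0, 0,
  0, 0, 0, 0, 0, 1, 0, 0, 0], [0, 0, 0, 0, 0, 0, 1, 0, 0, 0, 0, 1, 0, 0], [0, 2, 0, 2, 0, 0, 0, 0,
  0, 0, 0, 0, 1, 0], [0, 0, 0, 0, 0, 0, 0, 0, 1, 0, 0, 0, 0, 1]], [[1, 0, 1, 0, 0, 0, 0, 0, 0, 0, 0,
  0, 0, 0], [0, 1, 2, 0, 0, 0, 0, 0, 0, 0, 0, 0, 0, 0], [0, 0, 1, 0, 0, 0, 0, 0, 0, 0, 0, 0, 0, 0],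
  [0, 0, 0, 1, 0, 0, 0, 0, 0, 0, 0, 0, 0, 0], [0, 0, 0, 0, 1, 0, 0, 0, 0, 0, 0, 0, 0, 0], [0, 0, 0,
  0, 0, 1, 0, 0, 0, 0, 0, 0, 0, 0], [0, 0, 0, 0, 0, 0, 1, 0, 0, 0, 0, 0, 0, 0], [0, 0, 0, 0, 0, 0,
  0, 1, 0, 0, 0, 0, 0, 0], [0, 0, 0, 1, 0, 0, 0, 0, 1, 0, 0, 0, 0, 0], [0, 0, 0, 0, 0, 0, 0, 0, 0,
  1, 0, 0, 0, 0], [0, 0, 0, 0, 1, 0, 0, 0, 0, 0, 1, 0, 0, 0], [0, 0, 0, 0, 0, 2, 0, 0, 0, 0, 0, 1,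
  0, 0], [0, 0, 0, 0, 0, 0, 0, 2, 0, 0, 0, 0, 1, 0], [0, 2, 2, 0, 0, 0, 0, 0, 0, 0, 0, 0, 0, 1]],
  [[1, 0, 2, 0, 0, 0, 0, 0, 0, 0, 0, 0, 0, 0], [0, 1, 1, 0, 0, 0, 0, 0, 0, 0, 0, 0, 0, 0], [0, 0, 1,
  0, 0, 0, 0, 0, 0, 0, 0, 0, 0, 0], [0, 0, 0, 1, 0, 0, 0, 0, 0, 0, 0, 0, 0, 0], [0, 0, 0, 0, 1, 0,
  0, 0, 0, 0, 0, 0, 0, 0], [0, 0, 0, 0, 0, 1, 0, 0, 0, 0, 0, 0, 0, 0], [0, 0, 0, 0, 0, 0, 1, 0, 0,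
  0, 0, 0, 0, 0], [0, 0, 0, 0, 0, 0, 0, 1, 0, 0, 0, 0, 0, 0], [0, 0, 0, 2, 0, 0, 0, 0, 1, 0, 0, 0,
  0, 0], [0, 0, 0, 0, 0, 0, 0, 0, 0, 1, 0, 0, 0, 0], [0, 0, 0, 0, 2, 0, 0, 0, 0, 0, 1, 0, 0, 0], [0,
  0, 0, 0, 0, 1, 0, 0, 0, 0, 0, 1, 0, 0], [0, 0, 0, 0, 0, 0, 0, 1, 0, 0, 0, 0, 1, 0], [0, 1, 2, 0,
  0, 0, 0, 0, 0, 0, 0, 0, 0, 1]], [[1, 0, 0, 0, 0, 1, 0, 0, 0, 0, 0, 0, 0, 0], [0, 1, 0, 0, 0, 0, 0,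
  0, 0, 0, 0, 0, 0, 0], [0, 0, 1, 0, 0, 0, 0, 0, 0, 0, 0, 0, 0, 0], [0, 0, 0, 1, 0, 0, 0, 0, 0, 0,
  0, 0, 0, 0], [0, 0, 2, 0, 1, 0, 0, 0, 0, 0, 0, 0, 0, 0], [0, 0, 0, 0, 0, 1, 0, 0, 0, 0, 0, 0, 0,
  0], [0, 0, 1, 0, 1, 0, 1, 0, 0, 0, 0, 0, 0, 0], [0, 0, 0, 0, 0, 0, 0, 1, 0, 0, 0, 0, 0, 0], [0, 0,
  1, 0, 0, 0, 0, 0, 1, 0, 0, 0, 0, 0], [0, 0, 0, 0, 0, 0, 0, 2, 0, 1, 0, 0, 0, 0], [1, 2, 0, 0, 0,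
  2, 0, 0, 0, 0, 1, 0, 0, 0], [0, 0, 0, 0, 0, 0, 0, 2, 0, 2, 0, 1, 0, 0], [0, 0, 0, 0, 0, 0, 0, 0,
  0, 0, 0, 0, 1, 0], [0, 0, 0, 0, 0, 0, 0, 2, 0, 0, 0, 0, 0, 1]], [[1, 0, 0, 0, 0, 2, 0, 0, 0, 0, 0,
  0, 0, 0], [0, 1, 0, 0, 0, 0, 0, 0, 0, 0, 0, 0, 0, 0], [0, 0, 1, 0, 0, 0, 0, 0, 0, 0, 0, 0, 0, 0],
  [0, 0, 0, 1, 0, 0, 0, 0, 0, 0, 0, 0, 0, 0], [0, 0, 1, 0, 1, 0, 0, 0, 0, 0, 0, 0, 0, 0], [0, 0, 0,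
  0, 0, 1, 0, 0, 0, 0, 0, 0, 0, 0], [0, 0, 1, 0, 2, 0, 1, 0, 0, 0, 0, 0, 0, 0], [0, 0, 0, 0, 0, 0,
  0, 1, 0, 0, 0, 0, 0, 0], [0, 0, 2, 0, 0, 0, 0, 0, 1, 0, 0, 0, 0, 0], [0, 0, 0, 0, 0, 0, 0, 1, 0,
  1, 0, 0, 0, 0], [2, 1, 0, 0, 0, 2, 0, 0, 0, 0, 1, 0, 0, 0], [0, 0, 0, 0, 0, 0, 0, 2, 0, 1, 0, 1,
  0, 0], [0, 0, 0, 0, 0, 0, 0, 0, 0, 0, 0, 0, 1, 0], [0, 0, 0, 0, 0, 0, 0, 1, 0, 0, 0, 0, 0, 1]],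
  [[1, 0, 0, 0, 2, 0, 0, 0, 0, 0, 0, 0, 0, 0], [0, 1, 0, 0, 0, 0, 0, 0, 0, 0, 0, 0, 0, 0], [0, 0, 1,
  0, 0, 0, 0, 0, 0, 0, 0, 0, 0, 0], [0, 0, 0, 1, 0, 0, 0, 0, 0, 0, 0, 0, 0, 0], [0, 0, 0, 0, 1, 0,
  0, 0, 0, 0, 0, 0, 0, 0], [0, 0, 1, 0, 0, 1, 0, 0, 0, 0, 0, 0, 0, 0], [0, 0, 0, 1, 0, 0, 1, 0, 0,
  0, 0, 0, 0, 0], [0, 0, 0, 0, 0, 0, 0, 1, 0, 0, 0, 0, 0, 0], [0, 0, 0, 0, 0, 0, 0, 0, 1, 0, 0, 0,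
  0, 0], [0, 0, 2, 0, 0, 1, 0, 0, 0, 1, 0, 0, 0, 0], [0, 0, 0, 1, 0, 0, 2, 0, 0, 0, 1, 0, 0, 0], [2,
  0, 0, 0, 2, 0, 0, 0, 0, 0, 0, 1, 0, 0], [0, 0, 1, 0, 0, 0, 0, 0, 0, 0, 0, 0, 1, 0], [0, 0, 0, 2,
  0, 0, 0, 0, 0, 0, 0, 0, 0, 1]], [[1, 0, 0, 0, 1, 0, 0, 0, 0, 0, 0, 0, 0, 0], [0, 1, 0, 0, 0, 0, 0,
  0, 0, 0, 0, 0, 0, 0], [0, 0, 1, 0, 0, 0, 0, 0, 0, 0, 0, 0, 0, 0], [0, 0, 0, 1, 0, 0, 0, 0, 0, 0,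
  0, 0, 0, 0], [0, 0, 0, 0, 1, 0, 0, 0, 0, 0, 0, 0, 0, 0], [0, 0, 2, 0, 0, 1, 0, 0, 0, 0, 0, 0, 0,
  0], [0, 0, 0, 2, 0, 0, 1, 0, 0, 0, 0, 0, 0, 0], [0, 0, 0, 0, 0, 0, 0, 1, 0, 0, 0, 0, 0, 0], [0, 0,
  0, 0, 0, 0, 0, 0, 1, 0, 0, 0, 0, 0], [0, 0, 2, 0, 0, 2, 0, 0, 0, 1, 0, 0, 0, 0], [0, 0, 0, 1, 0,
  0, 1, 0, 0, 0, 1, 0, 0, 0], [1, 0, 0, 0, 2, 0, 0, 0, 0, 0, 0, 1, 0, 0], [0, 0, 2, 0, 0, 0, 0, 0,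
  0, 0, 0, 0, 1, 0], [0, 0, 0, 1, 0, 0, 0, 0, 0, 0, 0, 0, 0, 1]]]

/-- Roots. -/
def Grs : List (List ℕ) :=
  [[], [7, 1], [], [6, 1], [], [4, 1], [], [5, 1], [], [10, 1], [], [11, 1], [], [8, 1], [], [9, 1]]

/-- Root elements. -/
def G7m : List (List (List ℕ)) :=
  [[[1, 0, 0, 0, 0, 0, 0], [0, 1, 0, 0, 0, 0, 0], [0, 0, 1, 0, 0, 0, 0], [0, 0, 0, 1, 0, 0, 0], [0,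
  0, 0, 0, 1, 0, 0], [0, 0, 0, 0, 0, 1, 0], [0, 0, 0, 0, 0, 0, 1]], [[1, 0, 0, 0, 0, 0, 1], [0, 1,
  1, 0, 0, 0, 0], [0, 0, 1, 0, 0, 0, 0], [1, 0, 0, 1, 0, 0, 2], [0, 0, 0, 0, 1, 0, 0], [0, 0, 0, 0,
  2, 1, 0], [0, 0, 0, 0, 0, 0, 1]], [[1, 0, 0, 0, 0, 0, 2], [0, 1, 2, 0, 0, 0, 0], [0, 0, 1, 0, 0,
  0, 0], [2, 0, 0, 1, 0, 0, 2], [0, 0, 0, 0, 1, 0, 0], [0, 0, 0, 0, 1, 1, 0], [0, 0, 0, 0, 0, 0,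
  1]], [[1, 0, 0, 0, 0, 0, 0], [0, 1, 0, 0, 0, 0, 0], [0, 0, 1, 1, 0, 0, 0], [0, 0, 0, 1, 0, 0, 0],
  [0, 0, 0, 0, 1, 0, 0], [0, 0, 0, 0, 0, 1, 0], [0, 0, 0, 0, 0, 2, 1]], [[1, 0, 0, 0, 0, 0, 0], [0,
  1, 0, 0, 0, 0, 0], [0, 0, 1, 2, 0, 0, 0], [0, 0, 0, 1, 0, 0, 0], [0, 0, 0, 0, 1, 0, 0], [0, 0, 0,
  0, 0, 1, 0], [0, 0, 0, 0, 0, 1, 1]], [[1, 0, 0, 2, 0, 0, 0], [0, 1, 0, 0, 0, 0, 0], [0, 1, 1, 0,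
  0, 0, 0], [0, 0, 0, 1, 0, 0, 0], [0, 0, 0, 0, 1, 2, 0], [0, 0, 0, 0, 0, 1, 0], [2, 0, 0, 2, 0, 0,
  1]], [[1, 0, 0, 1, 0, 0, 0], [0, 1, 0, 0, 0, 0, 0], [0, 2, 1, 0, 0, 0, 0], [0, 0, 0, 1, 0, 0, 0],
  [0, 0, 0, 0, 1, 1, 0], [0, 0, 0, 0, 0, 1, 0], [1, 0, 0, 2, 0, 0, 1]], [[1, 0, 0, 0, 0, 0, 0], [0,
  1, 0, 0, 0, 0, 0], [0, 0, 1, 0, 0, 0, 0], [0, 0, 1, 1, 0, 0, 0], [0, 0, 0, 0, 1, 0, 0], [0, 0, 0,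
  0, 0, 1, 2], [0, 0, 0, 0, 0, 0, 1]], [[1, 0, 0, 0, 0, 0, 0], [0, 1, 0, 0, 0, 0, 0], [0, 0, 1, 0,
  0, 0, 0], [0, 0, 2, 1, 0, 0, 0], [0, 0, 0, 0, 1, 0, 0], [0, 0, 0, 0, 0, 1, 1], [0, 0, 0, 0, 0, 0,
  1]], [[1, 0, 0, 0, 0, 0, 0], [0, 1, 0, 0, 0, 0, 2], [0, 0, 1, 0, 0, 0, 0], [0, 0, 0, 1, 1, 0, 0],
  [0, 0, 0, 0, 1, 0, 0], [0, 0, 0, 0, 0, 1, 0], [0, 0, 0, 0, 0, 0, 1]], [[1, 0, 0, 0, 0, 0, 0], [0,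
  1, 0, 0, 0, 0, 1], [0, 0, 1, 0, 0, 0, 0], [0, 0, 0, 1, 2, 0, 0], [0, 0, 0, 0, 1, 0, 0], [0, 0, 0,
  0, 0, 1, 0], [0, 0, 0, 0, 0, 0, 1]], [[1, 0, 0, 0, 0, 0, 0], [0, 1, 0, 0, 0, 2, 0], [0, 0, 1, 0,
  1, 0, 0], [0, 0, 0, 1, 0, 0, 0], [0, 0, 0, 0, 1, 0, 0], [0, 0, 0, 0, 0, 1, 0], [0, 0, 0, 0, 0, 0,
  1]], [[1, 0, 0, 0, 0, 0, 0], [0, 1, 0, 0, 0, 1, 0], [0, 0, 1, 0, 2, 0, 0], [0, 0, 0, 1, 0, 0, 0],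
  [0, 0, 0, 0, 1, 0, 0], [0, 0, 0, 0, 0, 1, 0], [0, 0, 0, 0, 0, 0, 1]], [[1, 0, 0, 0, 0, 1, 0], [0,
  1, 0, 2, 0, 0, 0], [1, 0, 1, 0, 0, 2, 0], [0, 0, 0, 1, 0, 0, 0], [0, 0, 0, 0, 1, 0, 0], [0, 0, 0,
  0, 0, 1, 0], [0, 0, 0, 0, 1, 0, 1]], [[1, 0, 0, 0, 0, 2, 0], [0, 1, 0, 1, 0, 0, 0], [2, 0, 1, 0,
  0, 2, 0], [0, 0, 0, 1, 0, 0, 0], [0, 0, 0, 0, 1, 0, 0], [0, 0, 0, 0, 0, 1, 0], [0, 0, 0, 0, 2, 0,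
  1]], [[1, 0, 0, 0, 2, 0, 0], [2, 1, 0, 0, 2, 0, 0], [0, 0, 1, 0, 0, 0, 2], [0, 0, 0, 1, 0, 1, 0],
  [0, 0, 0, 0, 1, 0, 0], [0, 0, 0, 0, 0, 1, 0], [0, 0, 0, 0, 0, 0, 1]], [[1, 0, 0, 0, 1, 0, 0], [1,
  1, 0, 0, 2, 0, 0], [0, 0, 1, 0, 0, 0, 1], [0, 0, 0, 1, 0, 2, 0], [0, 0, 0, 0, 1, 0, 0], [0, 0, 0,
  0, 0, 1, 0], [0, 0, 0, 0, 0, 0, 1]]]

/-- Commutators. -/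
def G7x : List (List (List (List ℕ))) :=
  [[], [[[1, 0, 0, 0, 0, 0, 0], [0, 1, 0, 0, 0, 0, 0], [0, 0, 2, 0, 0, 0, 0], [0, 0, 0, 2, 0, 0, 0],
  [0, 0, 0, 0, 1, 0, 0], [0, 0, 0, 0, 0, 2, 0], [0, 0, 0, 0, 0, 0, 2]], [[1, 0, 0, 0, 0, 0, 1], [0,
  1, 1, 0, 0, 0, 0], [0, 0, 1, 0, 0, 0, 0], [1, 0, 0, 1, 0, 0, 2], [0, 0, 0, 0, 1, 0, 0], [0, 0, 0,
  0, 2, 1, 0], [0, 0, 0, 0, 0, 0, 1]], [[1, 0, 0, 0, 0, 0, 0], [0, 1, 0, 0, 0, 0, 0], [0, 0, 2, 0,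
  0, 0, 0], [0, 0, 0, 2, 0, 0, 0], [0, 0, 0, 0, 1, 0, 0], [0, 0, 0, 0, 0, 2, 0], [0, 0, 0, 0, 0, 0,
  2]], [[1, 0, 0, 0, 0, 0, 2], [0, 1, 2, 0, 0, 0, 0], [0, 0, 1, 0, 0, 0, 0], [2, 0, 0, 1, 0, 0, 2],
  [0, 0, 0, 0, 1, 0, 0], [0, 0, 0, 0, 1, 1, 0], [0, 0, 0, 0, 0, 0, 1]]], [], [[[1, 0, 0, 0, 0, 0,
  0], [0, 2, 0, 0, 0, 0, 0], [0, 0, 2, 0, 0, 0, 0], [0, 0, 0, 1, 0, 0, 0], [0, 0, 0, 0, 2, 0, 0],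
  [0, 0, 0, 0, 0, 2, 0], [0, 0, 0, 0, 0, 0, 1]], [[1, 0, 0, 0, 0, 0, 0], [0, 1, 0, 0, 0, 0, 0], [0,
  0, 1, 1, 0, 0, 0], [0, 0, 0, 1, 0, 0, 0], [0, 0, 0, 0, 1, 0, 0], [0, 0, 0, 0, 0, 1, 0], [0, 0, 0,
  0, 0, 2, 1]], [[1, 0, 0, 0, 0, 0, 0], [0, 2, 0, 0, 0, 0, 0], [0, 0, 2, 0, 0, 0, 0], [0, 0, 0, 1,
  0, 0, 0], [0, 0, 0, 0, 2, 0, 0], [0, 0, 0, 0, 0, 2, 0], [0, 0, 0, 0, 0, 0, 1]], [[1, 0, 0, 0, 0,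
  0, 0], [0, 1, 0, 0, 0, 0, 0], [0, 0, 1, 2, 0, 0, 0], [0, 0, 0, 1, 0, 0, 0], [0, 0, 0, 0, 1, 0, 0],
  [0, 0, 0, 0, 0, 1, 0], [0, 0, 0, 0, 0, 1, 1]]], [], [[[1, 0, 0, 0, 0, 0, 0], [0, 1, 0, 0, 0, 0,
  0], [0, 0, 2, 0, 0, 0, 0], [0, 0, 0, 2, 0, 0, 0], [0, 0, 0, 0, 1, 0, 0], [0, 0, 0, 0, 0, 2, 0],
  [0, 0, 0, 0, 0, 0, 2]], [[1, 0, 0, 2, 0, 0, 0], [0, 1, 0, 0, 0, 0, 0], [0, 1, 1, 0, 0, 0, 0], [0,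
  0, 0, 1, 0, 0, 0], [0, 0, 0, 0, 1, 2, 0], [0, 0, 0, 0, 0, 1, 0], [2, 0, 0, 2, 0, 0, 1]], [[1, 0,
  0, 0, 0, 0, 0], [0, 1, 0, 0, 0, 0, 0], [0, 0, 2, 0, 0, 0, 0], [0, 0, 0, 2, 0, 0, 0], [0, 0, 0, 0,
  1, 0, 0], [0, 0, 0, 0, 0, 2, 0], [0, 0, 0, 0, 0, 0, 2]], [[1, 0, 0, 1, 0, 0, 0], [0, 1, 0, 0, 0,
  0, 0], [0, 2, 1, 0, 0, 0, 0], [0, 0, 0, 1, 0, 0, 0], [0, 0, 0, 0, 1, 1, 0], [0, 0, 0, 0, 0, 1, 0],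
  [1, 0, 0, 2, 0, 0, 1]]], [], [[[1, 0, 0, 0, 0, 0, 0], [0, 2, 0, 0, 0, 0, 0], [0, 0, 2, 0, 0, 0,
  0], [0, 0, 0, 1, 0, 0, 0], [0, 0, 0, 0, 2, 0, 0], [0, 0, 0, 0, 0, 2, 0], [0, 0, 0, 0, 0, 0, 1]],
  [[1, 0, 0, 0, 0, 0, 0], [0, 1, 0, 0, 0, 0, 0], [0, 0, 1, 0, 0, 0, 0], [0, 0, 1, 1, 0, 0, 0], [0,
  0, 0, 0, 1, 0, 0], [0, 0, 0, 0, 0, 1, 2], [0, 0, 0, 0, 0, 0, 1]], [[1, 0, 0, 0, 0, 0, 0], [0, 2,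
  0, 0, 0, 0, 0], [0, 0, 2, 0, 0, 0, 0], [0, 0, 0, 1, 0, 0, 0], [0, 0, 0, 0, 2, 0, 0], [0, 0, 0, 0,
  0, 2, 0], [0, 0, 0, 0, 0, 0, 1]], [[1, 0, 0, 0, 0, 0, 0], [0, 1, 0, 0, 0, 0, 0], [0, 0, 1, 0, 0,
  0, 0], [0, 0, 2, 1, 0, 0, 0], [0, 0, 0, 0, 1, 0, 0], [0, 0, 0, 0, 0, 1, 1], [0, 0, 0, 0, 0, 0,
  1]]], [], [[[1, 0, 0, 0, 0, 0, 0], [0, 2, 0, 0, 0, 0, 0], [0, 0, 2, 0, 0, 0, 0], [0, 0, 0, 1, 0,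
  0, 0], [0, 0, 0, 0, 2, 0, 0], [0, 0, 0, 0, 0, 2, 0], [0, 0, 0, 0, 0, 0, 1]], [[1, 0, 0, 0, 0, 0,
  0], [0, 1, 0, 0, 0, 0, 2], [0, 0, 1, 0, 0, 0, 0], [0, 0, 0, 1, 1, 0, 0], [0, 0, 0, 0, 1, 0, 0],
  [0, 0, 0, 0, 0, 1, 0], [0, 0, 0, 0, 0, 0, 1]], [[1, 0, 0, 0, 0, 0, 0], [0, 2, 0, 0, 0, 0, 0], [0,
  0, 2, 0, 0, 0, 0], [0, 0, 0, 1, 0, 0, 0], [0, 0, 0, 0, 2, 0, 0], [0, 0, 0, 0, 0, 2, 0], [0, 0, 0,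
  0, 0, 0, 1]], [[1, 0, 0, 0, 0, 0, 0], [0, 1, 0, 0, 0, 0, 1], [0, 0, 1, 0, 0, 0, 0], [0, 0, 0, 1,
  2, 0, 0], [0, 0, 0, 0, 1, 0, 0], [0, 0, 0, 0, 0, 1, 0], [0, 0, 0, 0, 0, 0, 1]]], [], [[[1, 0, 0,
  0, 0, 0, 0], [0, 1, 0, 0, 0, 0, 0], [0, 0, 2, 0, 0, 0, 0], [0, 0, 0, 2, 0, 0, 0], [0, 0, 0, 0, 1,
  0, 0], [0, 0, 0, 0, 0, 2, 0], [0, 0, 0, 0, 0, 0, 2]], [[1, 0, 0, 0, 0, 0, 0], [0, 1, 0, 0, 0, 2,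
  0], [0, 0, 1, 0, 1, 0, 0], [0, 0, 0, 1, 0, 0, 0], [0, 0, 0, 0, 1, 0, 0], [0, 0, 0, 0, 0, 1, 0],
  [0, 0, 0, 0, 0, 0, 1]], [[1, 0, 0, 0, 0, 0, 0], [0, 1, 0, 0, 0, 0, 0], [0, 0, 2, 0, 0, 0, 0], [0,
  0, 0, 2, 0, 0, 0], [0, 0, 0, 0, 1, 0, 0], [0, 0, 0, 0, 0, 2, 0], [0, 0, 0, 0, 0, 0, 2]], [[1, 0,
  0, 0, 0, 0, 0], [0, 1, 0, 0, 0, 1, 0], [0, 0, 1, 0, 2, 0, 0], [0, 0, 0, 1, 0, 0, 0], [0, 0, 0, 0,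
  1, 0, 0], [0, 0, 0, 0, 0, 1, 0], [0, 0, 0, 0, 0, 0, 1]]], [], [[[1, 0, 0, 0, 0, 0, 0], [0, 2, 0,
  0, 0, 0, 0], [0, 0, 2, 0, 0, 0, 0], [0, 0, 0, 1, 0, 0, 0], [0, 0, 0, 0, 2, 0, 0], [0, 0, 0, 0, 0,
  2, 0], [0, 0, 0, 0, 0, 0, 1]], [[1, 0, 0, 0, 0, 1, 0], [0, 1, 0, 2, 0, 0, 0], [1, 0, 1, 0, 0, 2,
  0], [0, 0, 0, 1, 0, 0, 0], [0, 0, 0, 0, 1, 0, 0], [0, 0, 0, 0, 0, 1, 0], [0, 0, 0, 0, 1, 0, 1]],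
  [[1, 0, 0, 0, 0, 0, 0], [0, 2, 0, 0, 0, 0, 0], [0, 0, 2, 0, 0, 0, 0], [0, 0, 0, 1, 0, 0, 0], [0,
  0, 0, 0, 2, 0, 0], [0, 0, 0, 0, 0, 2, 0], [0, 0, 0, 0, 0, 0, 1]], [[1, 0, 0, 0, 0, 2, 0], [0, 1,
  0, 1, 0, 0, 0], [2, 0, 1, 0, 0, 2, 0], [0, 0, 0, 1, 0, 0, 0], [0, 0, 0, 0, 1, 0, 0], [0, 0, 0, 0,
  0, 1, 0], [0, 0, 0, 0, 2, 0, 1]]], [], [[[1, 0, 0, 0, 0, 0, 0], [0, 2, 0, 0, 0, 0, 0], [0, 0, 2,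
  0, 0, 0, 0], [0, 0, 0, 1, 0, 0, 0], [0, 0, 0, 0, 2, 0, 0], [0, 0, 0, 0, 0, 2, 0], [0, 0, 0, 0, 0,
  0, 1]], [[1, 0, 0, 0, 2, 0, 0], [2, 1, 0, 0, 2, 0, 0], [0, 0, 1, 0, 0, 0, 2], [0, 0, 0, 1, 0, 1,
  0], [0, 0, 0, 0, 1, 0, 0], [0, 0, 0, 0, 0, 1, 0], [0, 0, 0, 0, 0, 0, 1]], [[1, 0, 0, 0, 0, 0, 0],
  [0, 2, 0, 0, 0, 0, 0], [0, 0, 2, 0, 0, 0, 0], [0, 0, 0, 1, 0, 0, 0], [0, 0, 0, 0, 2, 0, 0], [0, 0,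
  0, 0, 0, 2, 0], [0, 0, 0, 0, 0, 0, 1]], [[1, 0, 0, 0, 1, 0, 0], [1, 1, 0, 0, 2, 0, 0], [0, 0, 1,
  0, 0, 0, 1], [0, 0, 0, 1, 0, 2, 0], [0, 0, 0, 0, 1, 0, 0], [0, 0, 0, 0, 0, 1, 0], [0, 0, 0, 0, 0,
  0, 1]]], []]

/-- The form. -/
def G7b : List (List ℕ) :=
  [[1, 0, 0, 0, 0, 0, 0], [0, 0, 0, 0, 1, 0, 0], [0, 0, 0, 0, 0, 1, 0], [0, 0, 0, 0, 0, 0, 1], [0,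
  0, 0, 0, 0, 0, 0], [0, 0, 0, 0, 0, 0, 0], [0, 0, 0, 0, 0, 0, 0]]

theorem ck_mat {F ι G : Type*} [CommRing F] [Fintype ι] [DecidableEq ι] [Group G] {T : Tab}
    {el : ℕ → F} {d m : ℕ} {ε : ι ≃ Fin d} {ρ : G →* Matrix ι ι F} (hρ : Function.Injective ρ)
    {Ms : List (List (List ℕ))} (hT : T.Ok el)
    (hg : ∀ i < m, ∃ x, ρ x = mat el ε (nth [] Ms (2 * i + 1))) (hl : letOK T d m Ms) :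
    ∃ f : ℕ → G, Ck f (fun w => wordIs T d m Ms w (scalM d 1)) (wordNe T d m Ms) := by
  obtain ⟨g, h1, -⟩ := exists_els ρ hg
  have h := hT.matRep h1 hl
  exact ⟨g, fun {w} e => h.rels hρ (rs := [w]) (lall_iff.2 (by simpa using e)) w (by simp),
    h.ne_one⟩

variable {K : Type*} [Field K] [CharP K 2] [IsAlgClosed K] {X : Type*} [Group X]
  {ρ : X →* Mt (ZMod 2)} (D : Dat K ρ)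
include D

theorem Dat.nog {S : Type*} [Group S] {f : ℕ → S} {rel ne : List ℕ → Bool} (c : Ck f rel ne)
    (h : q3C rel ne Gg GM GF GR) (j : S →* X) (hj : Function.Injective j) : False := by
  obtain ⟨N, q, hF, hR, hN⟩ := D.q3 c h hj
  simp only [GF, GR, List.forall_mem_cons] at hF hR
  obtain ⟨e0, e1, e2, e3, -⟩ := hF
  obtain ⟨r0, r1, r2, r3, r4, -⟩ := hR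
  have h0 := q.ok GT0 13 27 (by decide +kernel)
  have h1 := q.le GT1 GT2 1 3 3 4 (by decide +kernel)
  have h2 := q.ok GT3 1 3 (by decide +kernel)
  have h3 := q.ok GT4 1 3 (by decide +kernel)
  simp only [sm, GT0, GT1, GT2, GT3, GT4, List.map, List.sum_cons, List.sum_nil, ← e0, ← e1, ← e2, ←
    e3] at h0 h1 h2 h3
  have key := (by decide +kernel : ∀ a ∈ [2, 14, 20, 32], ∀ b ∈ [2, 14, 20, 32], ∀ c ∈ [2, 14, 20,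
    32], ∀ d ∈ [2, 14, 20, 32], ∀ e ∈ [2, 14, 20, 32], (56 * 13 ≤ 3 * a + (1 * a + (3 * b + (1 * b +
    (9 * c + (6 * d + (6 * d + (2 * d + (9 * e + 0)))))))) ∧ (3 * a + (1 * a + (3 * b + (1 * b + (9
    * c + (6 * d + (6 * d + (2 * d + (9 * e + 0))))))))) % 27 = 56 * 13 % 27) → 1 * (1 * a + (1 * b
    + (3 * c + (2 * d + (2 * d + (1 * d + (3 * e + 0))))))) + 56 * 3 ≤ 3 * (1 * a + (1 * b + (1 * c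
    + (1 * e + 0)))) + 56 * 4 → (56 * 1 ≤ 3 * b + (1 * b + 0) ∧ (3 * b + (1 * b + 0)) % 3 = 56 * 1 %
    3) → (56 * 1 ≤ 3 * a + (1 * a + 0) ∧ (3 * a + (1 * a + 0)) % 3 = 56 * 1 % 3) → False) _ r0 _ r1
    _ r2 _ r3 _ r4 h0 h1 h2 h3
  exact key

theorem Dat.g23 (j : chevG2.group (ZMod 3) →* X) : ¬Function.Injective j := by
  have hT := tabP_ok (ZMod 3) 3 (by decide)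
  obtain ⟨f, c⟩ := ck_mat (ρ := chevMat chevG2 (ZMod 3)) (m := 8) (Ms := G14)
    (Units.val_injective.comp Subtype.val_injective) hT (fun i hi => hT.exists_chev
      (tabP_tot (by decide)) (c := 2) (by decide) (allFrom_zero.1 (show allFrom (fun i =>
        chevAt (tabP 3) 2 chevG2 G14 G14.tail Grs (2 * i + 1)) 0 8 by decide +kernel) i hi))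
    (by decide +kernel)
  exact D.nog c (by decide +kernel) j

theorem Dat.o73 (j : Omega (ZMod 3) (quadFormOdd 3 (ZMod 3)) →* X) : ¬Function.Injective j := by
  have hT := tabP_ok (ZMod 3) 3 (by decide)
  let ε : Unit ⊕ (Fin 3 ⊕ Fin 3) ≃ Fin 7 :=
    (Equiv.sumCongr finOneEquiv.symm finSumFinEquiv).trans finSumFinEquiv
  have h : mat Nat.cast ε G7b = fromBlocks (1 : Matrix _ _ (ZMod 3)) 0 0 (fromBlocks 0 1 0 0) := by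
    decide +kernel
  obtain ⟨f, c⟩ := ck_mat (ρ := omMat (ZMod 3) (quadFormOdd 3 (ZMod 3))) (m := 8) (Ms := G7m)
    ((Units.val_injective.comp Subtype.val_injective).comp Subtype.val_injective) hT
    (fun i hi => hT.exists_om ε (fun v => by
      simp [h, quadFormOdd, dotProduct, Fintype.sum_sum_type, fromBlocks_mulVec, pow_two])
      (allFrom_zero.1 (show allFrom (fun i => omAt (tabP 3) 7 G7b G7m G7x (2 * i + 1)) 0 8 by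
        decide +kernel) i hi)) (by decide +kernel)
  exact D.nog c (by decide +kernel) j

end CF.E72
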