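import Cfsg.Agent.E72.J
import Cfsg.Agent.Comp.J2.Main
import Cfsg.Agent.Classical.Linear
import Cfsg.Agent.S2601
import Cfsg.Agent.S2602
import Cfsg.Agent.S2603

/-! The groups `L₂(19)`, `L₄(3)`, `U₄(3)`, `J₂`, `G₂(8)`. -/

set_option autoImplicit false
set_option maxRecDepth 100000

namespace CF.E72

open CF.E83 CF.Comp CF.Spec Matrix Cfsg Cfsg.Lie

/-- Data. -/
noncomputable def A0_0 : Net := (Net.cons (nat_lit 1) (nat_lit 328768) (Net.cons (nat_lit 2) (nat_lit 131088) (Net.cons (nat_lit 4) (nat_lit 512) (Net.cons (nat_lit 8) (nat_lit 10) (Net.cons (nat_lit 16) (nat_lit 10) (Net.cons (nat_lit 8) (nat_lit 58) (Net.cons (nat_lit 4) (nat_lit 524) (Net.cons (nat_lit 2) (nat_lit 196880) (Net.cons (nat_lit 1) (nat_lit 345153) Net.nil)))))))))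
/-- Data. -/
noncomputable def A0_1 : Net := (Net.cons (nat_lit 1) (nat_lit 262144) (Net.cons (nat_lit 2) (nat_lit 196608) (Net.cons (nat_lit 4) (nat_lit 2831) (Net.cons (nat_lit 8) (nat_lit 15) (Net.cons (nat_lit 16) (nat_lit 15) (Net.cons (nat_lit 4) (nat_lit 2051) (Net.cons (nat_lit 2) (nat_lit 78355) (Net.cons (nat_lit 1) (nat_lit 66577) Net.nil))))))))
/-- Data. -/
noncomputable def A0 : List Net := [A0_0, A0_1]
/-- Data. -/
noncomputable def A1_0 : Net := (Net.cons (nat_lit 1) (nat_lit 1364) (Net.cons (nat_lit 2) (nat_lit 200960) (Net.cons (nat_lit 4) (nat_lit 769) (Net.cons (nat_lit 8) (nat_lit 3) (Net.cons (nat_lit 16) (nat_lit 3) (Net.cons (nat_lit 4) (nat_lit 1281) (Net.cons (nat_lit 2) (nat_lit 802) (Net.cons (nat_lit 1) (nat_lit 327936) Net.nil))))))))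
/-- Data. -/
noncomputable def A1_1 : Net := (Net.cons (nat_lit 1) (nat_lit 1040) (Net.cons (nat_lit 2) (nat_lit 69664) (Net.cons (nat_lit 4) (nat_lit 3598) (Net.cons (nat_lit 8) (nat_lit 3) (Net.cons (nat_lit 16) (nat_lit 15) (Net.cons (nat_lit 8) (nat_lit 29) (Net.cons (nat_lit 4) (nat_lit 264) (Net.cons (nat_lit 2) (nat_lit 74496) (Net.cons (nat_lit 1) (nat_lit 279632) Net.nil)))))))))
/-- Data. -/
noncomputable def A1_2 : Net := (Net.cons (nat_lit 1) (nat_lit 262144) (Net.cons (nat_lit 2) (nat_lit 201216) (Net.cons (nat_lit 4) (nat_lit 1281) (Net.cons (nat_lit 8) (nat_lit 8) (Net.cons (nat_lit 16) (nat_lit 13) (Net.cons (nat_lit 8) (nat_lit 97) (Net.cons (nat_lit 4) (nat_lit 3841) (Net.cons (nat_lit 2) (nat_lit 74256) (Net.cons (nat_lit 1) (nat_lit 282948) Net.nil)))))))))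
/-- Data. -/
noncomputable def A1 : List Net := [A1_0, A1_1, A1_2]
/-- Data. -/
noncomputable def AW : List (List Nat) := [[(nat_lit 3), (nat_lit 3), (nat_lit 1), (nat_lit 4), (nat_lit 1)],
  [(nat_lit 2), (nat_lit 3), (nat_lit 3), (nat_lit 1), (nat_lit 4), (nat_lit 1), (nat_lit 3), (nat_lit 1), (nat_lit 1)],
  [(nat_lit 8), (nat_lit 5), (nat_lit 7), (nat_lit 7)]]
/-- Data. -/
noncomputable def AC : List Lvl := [⟨(nat_lit 0), [[(nat_lit 1)],
  [(nat_lit 3)]], (nat_lit 4)⟩,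
  ⟨(nat_lit 1), [[(nat_lit 5)],
  [(nat_lit 7)]], (nat_lit 4)⟩,
  ⟨(nat_lit 2), [[(nat_lit 9)]], (nat_lit 8)⟩]
/-- Data. -/
noncomputable def AV : List (List Nat) := [[(nat_lit 262144), (nat_lit 786431), (nat_lit 0), (nat_lit 0), (nat_lit 0), (nat_lit 0), (nat_lit 0), (nat_lit 0), (nat_lit 0), (nat_lit 0), (nat_lit 0), (nat_lit 0), (nat_lit 0), (nat_lit 0), (nat_lit 0), (nat_lit 0), (nat_lit 0), (nat_lit 0), (nat_lit 0)],
  [(nat_lit 1), (nat_lit 262146), (nat_lit 524288), (nat_lit 65536), (nat_lit 64), (nat_lit 4096), (nat_lit 256), (nat_lit 131072), (nat_lit 128), (nat_lit 16384), (nat_lit 16), (nat_lit 2048), (nat_lit 32), (nat_lit 512), (nat_lit 4), (nat_lit 8), (nat_lit 8192), (nat_lit 32768), (nat_lit 1024)]]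
/-- Data. -/
noncomputable def AS : Net := (Net.cons (nat_lit 1) (nat_lit 349184) (Net.cons (nat_lit 2) (nat_lit 8976) (Net.cons (nat_lit 4) (nat_lit 2048) (Net.cons (nat_lit 16) (nat_lit 3) (Net.cons (nat_lit 8) (nat_lit 211) (Net.cons (nat_lit 4) (nat_lit 3589) (Net.cons (nat_lit 2) (nat_lit 78129) (Net.cons (nat_lit 1) (nat_lit 1089) Net.nil))))))))
/-- Data. -/
noncomputable def ACs : List (List Nat) := [[(nat_lit 0), (nat_lit 128), (nat_lit 32), (nat_lit 131072), (nat_lit 4), (nat_lit 65536), (nat_lit 524288), (nat_lit 64), (nat_lit 8), (nat_lit 512), (nat_lit 1), (nat_lit 294912), (nat_lit 24576), (nat_lit 2048), (nat_lit 16), (nat_lit 1024), (nat_lit 256), (nat_lit 2), (nat_lit 4096)],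
  [(nat_lit 0), (nat_lit 262400), (nat_lit 8), (nat_lit 1024), (nat_lit 16), (nat_lit 16384), (nat_lit 524288), (nat_lit 8192), (nat_lit 32768), (nat_lit 65536), (nat_lit 131072), (nat_lit 32), (nat_lit 512), (nat_lit 128), (nat_lit 2), (nat_lit 1), (nat_lit 2048), (nat_lit 4), (nat_lit 4160)]]
/-- Data. -/
noncomputable def AA : List (List (List Nat)) := [[[2, 7], [2, 17]],
  [[14, 1], [6, 10]]]
/-- Data. -/
noncomputable def AD : List (List (List (List Nat))) := [[[[1, 0], [1, 1]],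
  [[2, 7], [0, 10]]],
 [[[1, 0], [14, 1]],
  [[14, 1], [0, 15]]]]

theorem linA_a : linAll (tabP 19) 20 2 AV AA A0 ACs 2 = true := by decide +kernel
theorem linA : LinOK (tabP 19) 20 2 2 AV AA A0 :=
  ⟨⟨AS, by decide +kernel⟩, by decide +kernel, by decide +kernel, rfl,
    ACs, by decide +kernel, rfl, linAll_iff.1 linA_a⟩

theorem chA : ChainGe A0 A1 20 5 2 AW AC 3420 :=
  ⟨rfl, by decide, by decide, slp_of_slpOK (by decide +kernel), by decide +kernel, by decide +kernel,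
    by decide +kernel⟩

/-- Data. -/
noncomputable def B0_0 : Net := (Net.cons (nat_lit 1) (nat_lit 0x4400405040) (Net.cons (nat_lit 2) (nat_lit 0x1000320010) (Net.cons (nat_lit 4) (nat_lit 0x100000200) (Net.cons (nat_lit 8) (nat_lit 10092544) (Net.cons (nat_lit 16) (nat_lit 16) (Net.cons (nat_lit 32) (nat_lit 16) (Net.cons (nat_lit 16) (nat_lit 35344) (Net.cons (nat_lit 8) (nat_lit 10092576) (Net.cons (nat_lit 4) (nat_lit 0xf0601070c) (Net.cons (nat_lit 2) (nat_lit 0x1000320010) (Net.cons (nat_lit 1) (nat_lit 0x4400405041) Net.nil)))))))))))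
/-- Data. -/
noncomputable def B0_1 : Net := (Net.cons (nat_lit 1) (nat_lit 0x1100500500) (Net.cons (nat_lit 2) (nat_lit 36900864) (Net.cons (nat_lit 4) (nat_lit 0x306060100) (Net.cons (nat_lit 8) (nat_lit 16121860) (Net.cons (nat_lit 16) (nat_lit 150) (Net.cons (nat_lit 32) (nat_lit 150) (Net.cons (nat_lit 16) (nat_lit 59538) (Net.cons (nat_lit 8) (nat_lit 15270132) (Net.cons (nat_lit 4) (nat_lit 0x90003070c) (Net.cons (nat_lit 2) (nat_lit 0x1202122213) (Net.cons (nat_lit 1) (nat_lit 0x5541415410) Net.nil)))))))))))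
/-- Data. -/
noncomputable def B0 : List Net := [B0_0, B0_1]
/-- Data. -/
noncomputable def B1_0 : Net := (Net.cons (nat_lit 1) (nat_lit 0x101110400) (Net.cons (nat_lit 2) (nat_lit 0x1300302320) (Net.cons (nat_lit 4) (nat_lit 0x9080e0400) (Net.cons (nat_lit 8) (nat_lit 12845160) (Net.cons (nat_lit 16) (nat_lit 202) (Net.cons (nat_lit 32) (nat_lit 254) (Net.cons (nat_lit 16) (nat_lit 27116) (Net.cons (nat_lit 8) (nat_lit 9502926) (Net.cons (nat_lit 4) (nat_lit 0x2050a0f08) (Net.cons (nat_lit 2) (nat_lit 0x122322010) (Net.cons (nat_lit 1) (nat_lit 0x4151440154) Net.nil)))))))))))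
/-- Data. -/
noncomputable def B1_1 : Net := (Net.cons (nat_lit 1) (nat_lit 0x5514141440) (Net.cons (nat_lit 2) (nat_lit 0x2032103200) (Net.cons (nat_lit 4) (nat_lit 0x80e060200) (Net.cons (nat_lit 8) (nat_lit 6291591) (Net.cons (nat_lit 16) (nat_lit 234) (Net.cons (nat_lit 32) (nat_lit 255) (Net.cons (nat_lit 16) (nat_lit 53400) (Net.cons (nat_lit 8) (nat_lit 3670241) (Net.cons (nat_lit 4) (nat_lit 0xe08010100) (Net.cons (nat_lit 2) (nat_lit 0x1331033002) (Net.cons (nat_lit 1) (nat_lit 0x4410545144) Net.nil)))))))))))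
/-- Data. -/
noncomputable def B1_2 : Net := (Net.cons (nat_lit 1) (nat_lit 0x1005501400) (Net.cons (nat_lit 2) (nat_lit 0x100222200) (Net.cons (nat_lit 4) (nat_lit 0x409000c00) (Net.cons (nat_lit 8) (nat_lit 8912963) (Net.cons (nat_lit 16) (nat_lit 208) (Net.cons (nat_lit 32) (nat_lit 255) (Net.cons (nat_lit 16) (nat_lit 63731) (Net.cons (nat_lit 8) (nat_lit 10551423) (Net.cons (nat_lit 4) (nat_lit 0xc04090c00) (Net.cons (nat_lit 2) (nat_lit 0x1002320100) (Net.cons (nat_lit 1) (nat_lit 0x5504010504) Net.nil)))))))))))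
/-- Data. -/
noncomputable def B1_3 : Net := (Net.cons (nat_lit 1) (nat_lit 17043472) (Net.cons (nat_lit 2) (nat_lit 0x2202303000) (Net.cons (nat_lit 4) (nat_lit 0xd0e030700) (Net.cons (nat_lit 8) (nat_lit 4325532) (Net.cons (nat_lit 16) (nat_lit 134) (Net.cons (nat_lit 32) (nat_lit 222) (Net.cons (nat_lit 16) (nat_lit 56766) (Net.cons (nat_lit 8) (nat_lit 15073508) (Net.cons (nat_lit 4) (nat_lit 0x7010d0108) (Net.cons (nat_lit 2) (nat_lit 0x2023213210) (Net.cons (nat_lit 1) (nat_lit 0x5010040010) Net.nil)))))))))))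
/-- Data. -/
noncomputable def B1_4 : Net := (Net.cons (nat_lit 1) (nat_lit 0x1000001540) (Net.cons (nat_lit 2) (nat_lit 0x2302101200) (Net.cons (nat_lit 4) (nat_lit 0xb000e0a00) (Net.cons (nat_lit 8) (nat_lit 11599920) (Net.cons (nat_lit 16) (nat_lit 27) (Net.cons (nat_lit 32) (nat_lit 59) (Net.cons (nat_lit 16) (nat_lit 31643) (Net.cons (nat_lit 8) (nat_lit 10223640) (Net.cons (nat_lit 4) (nat_lit 0x2090c0c00) (Net.cons (nat_lit 2) (nat_lit 0x3030322120) (Net.cons (nat_lit 1) (nat_lit 0x1500015540) Net.nil)))))))))))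
/-- Data. -/
noncomputable def B1_5 : Net := (Net.cons (nat_lit 1) (nat_lit 0x4411105100) (Net.cons (nat_lit 2) (nat_lit 0x3122212000) (Net.cons (nat_lit 4) (nat_lit 0x2010f0000) (Net.cons (nat_lit 8) (nat_lit 65708) (Net.cons (nat_lit 16) (nat_lit 65) (Net.cons (nat_lit 32) (nat_lit 237) (Net.cons (nat_lit 16) (nat_lit 63797) (Net.cons (nat_lit 8) (nat_lit 9633900) (Net.cons (nat_lit 4) (nat_lit 0x7080b0800) (Net.cons (nat_lit 2) (nat_lit 0x3030303310) (Net.cons (nat_lit 1) (nat_lit 0x110140140) Net.nil)))))))))))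
/-- Data. -/
noncomputable def B1_6 : Net := (Net.cons (nat_lit 1) (nat_lit 336593152) (Net.cons (nat_lit 2) (nat_lit 0x3031333200) (Net.cons (nat_lit 4) (nat_lit 0x100000400) (Net.cons (nat_lit 8) (nat_lit 65691) (Net.cons (nat_lit 16) (nat_lit 33) (Net.cons (nat_lit 32) (nat_lit 187) (Net.cons (nat_lit 16) (nat_lit 12306) (Net.cons (nat_lit 8) (nat_lit 12124395) (Net.cons (nat_lit 4) (nat_lit 0x60d0e0700) (Net.cons (nat_lit 2) (nat_lit 0x3031333200) (Net.cons (nat_lit 1) (nat_lit 336593152) Net.nil)))))))))))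
/-- Data. -/
noncomputable def B1_7 : Net := (Net.cons (nat_lit 1) (nat_lit 0x104414000) (Net.cons (nat_lit 2) (nat_lit 0x3221111300) (Net.cons (nat_lit 4) (nat_lit 0xf08030600) (Net.cons (nat_lit 8) (nat_lit 14155904) (Net.cons (nat_lit 16) (nat_lit 31) (Net.cons (nat_lit 32) (nat_lit 223) (Net.cons (nat_lit 16) (nat_lit 49007) (Net.cons (nat_lit 8) (nat_lit 16252976) (Net.cons (nat_lit 4) (nat_lit 0xf080b0e00) (Net.cons (nat_lit 2) (nat_lit 0x3331111310) (Net.cons (nat_lit 1) (nat_lit 88412224) Net.nil)))))))))))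
/-- Data. -/
noncomputable def B1 : List Net := [B1_0, B1_1, B1_2, B1_3, B1_4, B1_5, B1_6, B1_7]
/-- Data. -/
noncomputable def BW : List (List Nat) := [[(nat_lit 4), (nat_lit 2), (nat_lit 4), (nat_lit 2), (nat_lit 4), (nat_lit 4), (nat_lit 1), (nat_lit 3)],
  [(nat_lit 2), (nat_lit 4), (nat_lit 1), (nat_lit 3), (nat_lit 1), (nat_lit 4), (nat_lit 4), (nat_lit 4)],
  [(nat_lit 7), (nat_lit 6), (nat_lit 7), (nat_lit 6), (nat_lit 7)],
  [(nat_lit 5), (nat_lit 5), (nat_lit 7)],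
  [(nat_lit 10), (nat_lit 12), (nat_lit 10), (nat_lit 11), (nat_lit 9), (nat_lit 12), (nat_lit 10), (nat_lit 11)],
  [(nat_lit 11), (nat_lit 11), (nat_lit 11), (nat_lit 11), (nat_lit 10), (nat_lit 12), (nat_lit 12), (nat_lit 10), (nat_lit 10), (nat_lit 12)],
  [(nat_lit 15), (nat_lit 13), (nat_lit 13), (nat_lit 16), (nat_lit 14)],
  [(nat_lit 16), (nat_lit 13), (nat_lit 15), (nat_lit 14), (nat_lit 16)]]
/-- Data. -/
noncomputable def BC : List Lvl := [⟨(nat_lit 0), [[(nat_lit 1)],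
  [(nat_lit 3)]], (nat_lit 7)⟩,
  ⟨(nat_lit 1), [[(nat_lit 5)],
  [(nat_lit 7)]], (nat_lit 5)⟩,
  ⟨(nat_lit 2), [[(nat_lit 9)],
  [(nat_lit 11)]], (nat_lit 5)⟩,
  ⟨(nat_lit 3), [[(nat_lit 13)],
  [(nat_lit 15)]], (nat_lit 4)⟩,
  ⟨(nat_lit 4), [[(nat_lit 17)],
  [(nat_lit 19)]], (nat_lit 1)⟩]
/-- Data. -/
noncomputable def BV : List (List Nat) := [[(nat_lit 0xc5111291a), (nat_lit 0xf3aeeed6e5), (nat_lit 0)],
  [(nat_lit 0x10b808a259), (nat_lit 0x8f45b50d22), (nat_lit 0x6002425084)],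
  [(nat_lit 0x4078e11121), (nat_lit 0x1e861a2498), (nat_lit 0xa10104ca46)],
  [(nat_lit 0x800639980d), (nat_lit 0x55710066a0), (nat_lit 0x2a88c60152)]]
/-- Data. -/
noncomputable def BS : Net := (Net.cons (nat_lit 1) (nat_lit 1145049424) (Net.cons (nat_lit 2) (nat_lit 538055184) (Net.cons (nat_lit 4) (nat_lit 0x307050b00) (Net.cons (nat_lit 8) (nat_lit 12779729) (Net.cons (nat_lit 16) (nat_lit 23) (Net.cons (nat_lit 32) (nat_lit 255) (Net.cons (nat_lit 16) (nat_lit 59661) (Net.cons (nat_lit 8) (nat_lit 13500592) (Net.cons (nat_lit 4) (nat_lit 0x90c0f0d00) (Net.cons (nat_lit 2) (nat_lit 0x1303311100) (Net.cons (nat_lit 1) (nat_lit 0x5440145141) Net.nil)))))))))))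
/-- Data. -/
noncomputable def BCs : List (List Nat) := [[(nat_lit 0), (nat_lit 0x45b2f5e517), (nat_lit 0xba4d0a1ae8)],
  [(nat_lit 0), (nat_lit 0x88a55f22a5), (nat_lit 0x775aa0dd5a)]]
/-- Data. -/
noncomputable def BA : List (List (List Nat)) := [[[0, 1, 2, 1], [1, 1, 0, 1], [2, 0, 1, 2], [2, 2, 1, 1]],
  [[1, 1, 2, 2], [2, 0, 1, 2], [2, 0, 2, 2], [0, 0, 2, 1]]]
/-- Data. -/
noncomputable def BD : List (List (List (List Nat))) := [[[[1, 2, 0, 0], [0, 1, 0, 0], [0, 0, 1, 0], [0, 0, 0, 1]],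
  [[1, 0, 0, 0], [1, 1, 0, 0], [2, 1, 1, 0], [2, 2, 2, 1]],
  [[1, 2, 2, 2], [0, 2, 1, 2], [0, 0, 2, 2], [0, 0, 0, 1]]],
 [[[1, 0, 0, 0], [2, 1, 0, 0], [2, 1, 1, 0], [0, 0, 2, 1]],
  [[1, 1, 2, 2], [0, 1, 0, 1], [0, 0, 1, 0], [0, 0, 0, 1]]]]

theorem linB_a : linAll (tabP 3) 40 4 BV BA B0 BCs 2 = true := by decide +kernel
theorem linB : LinOK (tabP 3) 40 4 2 BV BA B0 :=
  ⟨⟨BS, by decide +kernel⟩, by decide +kernel, by decide +kernel, rfl,
    BCs, by decide +kernel, rfl, linAll_iff.1 linB_a⟩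

theorem chB : ChainGe B0 B1 40 6 2 BW BC 6065280 :=
  ⟨rfl, by decide, by decide, slp_of_slpOK (by decide +kernel), by decide +kernel, by decide +kernel,
    by decide +kernel⟩

/-- Data. -/
noncomputable def C0_0 : Net := (Net.cons (nat_lit 1) (nat_lit 0x4005041015414155015441550401550505004111001504045054515005500404501100) (Net.cons (nat_lit 2) (nat_lit 0x1313203212200021102123002101020133110011302020212331300020010020013210) (Net.cons (nat_lit 4) (nat_lit 0xa0a0d02010c0709060d010c050808040e030d080e0f0503020c000400010206000400) (Net.cons (nat_lit 8) (nat_lit 0xc3005f008000c90070006a00a70006001100ca002400110081006a00c800010011) (Net.cons (nat_lit 16) (nat_lit 0x580000e8d00000a33200002044000042800000c1460000dec80000bc0900000000) (Net.cons (nat_lit 32) (nat_lit 0x9d1febde000000000043b3ac0000000001921c410000000000420840) (Net.cons (nat_lit 64) (nat_lit 0x6c2830ac00cbeb5300000000000000000000000000000000)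 (Net.cons (nat_lit 128) (nat_lit 13364050) (Net.cons (nat_lit 256) (nat_lit 13364050) (Net.cons (nat_lit 128) (nat_lit 0xfc6b78ec2011c2010000000000cbeb52) (Net.cons (nat_lit 64) (nat_lit 0xffeff8febefbdadf00000000000000000394b58900420840) (Net.cons (nat_lit 32) (nat_lit 0x4fb43600000000c2d639fe000000006fb423b90000000074ab0840) (Net.cons (nat_lit 16) (nat_lit 0xe1000087ab00004efb0000be73000025870000608a000032080000f1ff00008611) (Net.cons (nat_lit 8) (nat_lit 0x28003600de00fe0093003500c80030003800ff00bd006a0051009f000500d60061) (Net.cons (nat_lit 4) (nat_lit 0x6000b0b03090f07050a090a00000e0d0c0f0d000402090c090d0103080e0203000e04) (Net.cons (nat_lit 2) (nat_lit 0x201320210022000030031011311300231121000310312223103000313002210320312) (Net.cons (nat_lit 1) (nat_lit 0x401014151545101500041414514105440104001110514444044111054544544410411) Net.nil)))))))))))))))))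
/-- Data. -/
noncomputable def C0_1 : Net := (Net.cons (nat_lit 1) (nat_lit 0x511544504010015445401555154105100041151010050015110055555141001154100) (Net.cons (nat_lit 2) (nat_lit 0x2200223331231212223203101130022200332132002002210322213201022222021110) (Net.cons (nat_lit 4) (nat_lit 0xd0b060c0e030604000304020c0c050d010a03090e000305040c0d0500020506030100) (Net.cons (nat_lit 8) (nat_lit 0x4000d9001a00d5005900df008100dc00f900290094007b00430010009100d00052) (Net.cons (nat_lit 16) (nat_lit 0x70000059760000fcc60000eeaa0000a8330000492a0000a4600000210000004100) (Net.cons (nat_lit 32) (nat_lit 0x2c0dd73e000000002c07411100000000888005800000000000000000) (Net.cons (nat_lit 64) (nat_lit 0x32296811801d75fa00000000000000000000000000010020) (Net.cons (nat_lit 128) (nat_lit 1930746) (Net.cons (nat_lit 256) (nat_lit 1930746) (Net.cons (nat_lit 128) (nat_lit 0x7739fe778886000000000000001c75da) (Net.cons (nat_lit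 64) (nat_lit 0xf779feffeac61cc00000000000000000dacf2fb100010020) (Net.cons (nat_lit 32) (nat_lit 0xa40010c4000000006168b6d500000000feffdebf0000000026974100) (Net.cons (nat_lit 16) (nat_lit 0x160000611200006595000017d40000a25f000098220000200e0000b8ff0000e852) (Net.cons (nat_lit 8) (nat_lit 0x2a003900fb002200e400fa00a8009400f9009800ff0030008e001600d8002800a2) (Net.cons (nat_lit 4) (nat_lit 0x800070b0d0b0700040607080a090f08030802020c010302000d020d0904010e09060e) (Net.cons (nat_lit 2) (nat_lit 0x3112232020101331111303000032032021000231331203032212102023132333210303) (Net.cons (nat_lit 1) (nat_lit 0x1144054451514011405040001511041040445544154444104110155045110110115111) Net.nil)))))))))))))))))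
/-- Data. -/
noncomputable def C0 : List Net := [C0_0, C0_1]
/-- Data. -/
noncomputable def C1_0 : Net := (Net.cons (nat_lit 1) (nat_lit 0x5151040444010444014450054514050044505055044144400444554145410405114440) (Net.cons (nat_lit 2) (nat_lit 0x3103201102003310203100232210222120230210123230001223300132110210022100) (Net.cons (nat_lit 4) (nat_lit 0x10603000a0f070401020d0b000107030f0a0608070e02000d0b000903050006020900) (Net.cons (nat_lit 8) (nat_lit 0x4700db008800560047008a006f00f00086002b00c4003f00240030000a00810002) (Net.cons (nat_lit 16) (nat_lit 0x45000084fa0000930000001a9d0000e4e10000d84800009c320000a14000000200) (Net.cons (nat_lit 32) (nat_lit 0xf3edc0be00000000022c512c0000000000e47050000000000099a000) (Net.cons (nat_lit 64) (nat_lit 0xa082e4e0b26a75f1000000000000000000000000006c10d0) (Net.cons (nat_lit 128) (nat_lit 13652965) (Net.cons (nat_lit 256) (nat_lit 16776181) (Net.cons (nat_lit 128)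 (nat_lit 0x708be9ecb240148094180d0104ff79b7) (Net.cons (nat_lit 64) (nat_lit 0x21be665210ba16790000000000000000146bb91686ee72d6) (Net.cons (nat_lit 32) (nat_lit 0xc9dc85740000000035e0332400000000244518c1000000008089f882) (Net.cons (nat_lit 16) (nat_lit 0x5a0000ec32000082b00000215b0000d62d0000b1d1000096b1000025c900003a92) (Net.cons (nat_lit 8) (nat_lit 0xdf00be008200660022001000a500d5008d000b0057002f00e20086009e00930014) (Net.cons (nat_lit 4) (nat_lit 0x10e01000a09030802000400040306000a0b06000a060a0907020c09070c080c060404) (Net.cons (nat_lit 2) (nat_lit 0x221212002220001112312310303301112000112101130132101312220120110222302) (Net.cons (nat_lit 1) (nat_lit 0x4110504111445550511051104410104404110100144551515445150405155400045450) Net.nil)))))))))))))))))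
/-- Data. -/
noncomputable def C1_1 : Net := (Net.cons (nat_lit 1) (nat_lit 0x405440445104144411115505004105155544405050005000515000450515010500154) (Net.cons (nat_lit 2) (nat_lit 0x20323301130331133311331320220123001120201003130331000230022201011200) (Net.cons (nat_lit 4) (nat_lit 0x8000607070b050b04080d0806010f090607040204010605010a070203030e00060200) (Net.cons (nat_lit 8) (nat_lit 0xa1003e003c005d00fe0098000c006600bd000f0095000000d500640089001c0011) (Net.cons (nat_lit 16) (nat_lit 0x500000cf3a0000c09c0000dbda0000490800001f7300003140000085b000003c00) (Net.cons (nat_lit 32) (nat_lit 0xc47e3b1000000008c64bb4e00000000523581320000000000c360cb) (Net.cons (nat_lit 64) (nat_lit 0x4a0d60800aa857e700000000000000000000000000b2b80a) (Net.cons (nat_lit 128) (nat_lit 386030) (Net.cons (nat_lit 256) (nat_lit 16777215) (Net.cons (nat_lit 128) (nat_lit 0x38920a10aa2349e4e69f70a181dc5f05) (Net.cons (nat_lit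 64) (nat_lit 0x9573de150b3622a00000000000000000dc8949af0137d43b) (Net.cons (nat_lit 32) (nat_lit 0x54a2f515000000006984211000000000072ae3500000000034d566cb) (Net.cons (nat_lit 16) (nat_lit 0x50000092100006e170000dac20000be760000fdf10000ec12000014b10000385b) (Net.cons (nat_lit 8) (nat_lit 0x66006c009c003200c40012000500c5009c0031005f00c5006b00cd008f006e0033) (Net.cons (nat_lit 4) (nat_lit 0x10b02070e0e0e03030c090f0f03030b0c020b03060f07080e0002090108030e0a0c) (Net.cons (nat_lit 2) (nat_lit 0x2220320011211111133201021102032221130210311113220332300121301303311310) (Net.cons (nat_lit 1) (nat_lit 0x1140054004541555454114010550510554454141000454155114555441545140545514) Net.nil)))))))))))))))))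
/-- Data. -/
noncomputable def C1_2 : Net := (Net.cons (nat_lit 1) (nat_lit 0x4144001051540041411454401545404541515111410115155015451441005114140400) (Net.cons (nat_lit 2) (nat_lit 0x2202100130023120002110121231111301103300203013212023030020200313203000) (Net.cons (nat_lit 4) (nat_lit 0xf0f07050c020c0e0c02050d060f0202070104090a050d090e060404030c0000040800) (Net.cons (nat_lit 8) (nat_lit 0xc5003f00d100a800b90011009b0099002200aa002c006c00c4000100e9004d007b) (Net.cons (nat_lit 16) (nat_lit 0x30000af12000084f400006788000025a300000721000004d40000e86d00002c00) (Net.cons (nat_lit 32) (nat_lit 0xaca985b40000000086c64e2f00000000764406c7000000000004935a) (Net.cons (nat_lit 64) (nat_lit 0x8010008a448a14c100000000000000000000000000823f40) (Net.cons (nat_lit 128) (nat_lit 14825623) (Net.cons (nat_lit 256) (nat_lit 16170975) (Net.cons (nat_lit 128) (nat_lit 0x4746c1a7ab996188d191602d67d1a74d) (Net.cons (nat_lit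 64) (nat_lit 0xeabc9d7a9958c58900000000000000005f84008c44f84981) (Net.cons (nat_lit 32) (nat_lit 0x78e9083d00000000061cc0cd0000000006f09d9200000000e9db73f1) (Net.cons (nat_lit 16) (nat_lit 0xab0000ba240000f5de0000af6b0000c75800000a200000f44700004d4600008e1a) (Net.cons (nat_lit 8) (nat_lit 0x4200cf005900ab003100d900cd00a50096001e005a00040091002d004200a200b1) (Net.cons (nat_lit 4) (nat_lit 0x505050d0e0a0106040b0c0e0e0b0e010e0e0d030f000a0f0508010d090b0700040e02) (Net.cons (nat_lit 2) (nat_lit 0x1000011001211211310202210110120121331033230011001012300110313012011220) (Net.cons (nat_lit 1) (nat_lit 0x1010040440540441515450410015004154455144104545044515515140401104440040) Net.nil)))))))))))))))))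
/-- Data. -/
noncomputable def C1_3 : Net := (Net.cons (nat_lit 1) (nat_lit 0x4155041451010545014540000500055450100515051014144545400015005500441110) (Net.cons (nat_lit 2) (nat_lit 0x1011100313133220212100123220230111100013223300030210101223302113220200) (Net.cons (nat_lit 4) (nat_lit 0x60e050103000c0e0906010b0403020f08000a0f0f0d050d0307040e08010508000400) (Net.cons (nat_lit 8) (nat_lit 0x3f001f001e00ba00b20019006d00f3001700dc00de005700630059005400830030) (Net.cons (nat_lit 16) (nat_lit 0xc500001cb000007e3f000035a50000ca5d0000fd1f000060440000969a00008500) (Net.cons (nat_lit 32) (nat_lit 0xcc6e63dc00000000087e83210000000060c33615000000000091d2fa) (Net.cons (nat_lit 64) (nat_lit 0x1238ac0302f039250000000000000000000000000030261e) (Net.cons (nat_lit 128) (nat_lit 2951593) (Net.cons (nat_lit 256) (nat_lit 16777215) (Net.cons (nat_lit 128) (nat_lit 0xeb87f69686a5827b3cbc1b15e078384f) (Net.cons (nat_lit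 64) (nat_lit 0x82c7469d7f5896b40000000000000000075ba8e7893d3e34) (Net.cons (nat_lit 32) (nat_lit 0x36d15d9e00000000472d558f000000002e457b8000000000b3209d8a) (Net.cons (nat_lit 16) (nat_lit 0xdf0000002800001fb40000ed6600009a010000ecdf00006f39000091d00000b350) (Net.cons (nat_lit 8) (nat_lit 0x4700fa006700ab00b30048000300f0007500a9003500ff001500420021008c00e2) (Net.cons (nat_lit 4) (nat_lit 0x407020c0402090b0004060304050001030009050f0103020401030d0106040d0a0a08) (Net.cons (nat_lit 2) (nat_lit 0x3133113233003323323000330301220120113113232031023303121030023031000120) (Net.cons (nat_lit 1) (nat_lit 0x1141050440554015450544155551440451050500044451451015414001540445141410) Net.nil)))))))))))))))))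
/-- Data. -/
noncomputable def C1_4 : Net := (Net.cons (nat_lit 1) (nat_lit 0x5104010041014040141414154044000011541404105441454104004045110111404140) (Net.cons (nat_lit 2) (nat_lit 0x120012230202220120202321222330232113103220320111221131010010312000300) (Net.cons (nat_lit 4) (nat_lit 0xf0c06060402000a0a0d00020c0d0205090b08060c05070a08020000070a0000040800) (Net.cons (nat_lit 8) (nat_lit 0xf800a8009a004000c300aa00e4001e00e900200022009d0099003d0024009c00a8) (Net.cons (nat_lit 16) (nat_lit 0x7b000072d40000309000006dcc00002d340000969100008399000002a20000a800) (Net.cons (nat_lit 32) (nat_lit 0x8215cf8100000000118bd47000000000270a716600000000004c8120) (Net.cons (nat_lit 64) (nat_lit 0x2113270249e34c2c000000000000000000000000001a1206) (Net.cons (nat_lit 128) (nat_lit 635226) (Net.cons (nat_lit 256) (nat_lit 16759678) (Net.cons (nat_lit 128) (nat_lit 0x36061381cd81f6200b51e41a0462b9dc) (Net.cons (nat_lit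 64) (nat_lit 0x63678e925ca78eac00000000000000005442a8912494036e) (Net.cons (nat_lit 32) (nat_lit 0x9ff0db8200000000f82edeec0000000052ee68ef00000000a5789188) (Net.cons (nat_lit 16) (nat_lit 0x760000f04500003e5e0000df680000ac350000262d00003b8900007eda00002b90) (Net.cons (nat_lit 8) (nat_lit 0x48007a005800d0004000fe004000d7006b005000de00de001a00f1001400da0098) (Net.cons (nat_lit 4) (nat_lit 0x103050507070d00020400010b02060209090a0506010b020801020c040a0404030300) (Net.cons (nat_lit 2) (nat_lit 0x1110210331112012131000313320231332130303202120132320312130211112012300) (Net.cons (nat_lit 1) (nat_lit 0x5104050401110411145114101054000511155414140441015015440050510115444500) Net.nil)))))))))))))))))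
/-- Data. -/
noncomputable def C1 : List Net := [C1_0, C1_1, C1_2, C1_3, C1_4]
/-- Data. -/
noncomputable def CW : List (List Nat) := [[(nat_lit 3), (nat_lit 1), (nat_lit 4), (nat_lit 1), (nat_lit 1)],
  [(nat_lit 2), (nat_lit 4), (nat_lit 1), (nat_lit 3), (nat_lit 3), (nat_lit 3), (nat_lit 1)],
  [(nat_lit 8), (nat_lit 6), (nat_lit 8), (nat_lit 6), (nat_lit 6), (nat_lit 8)],
  [(nat_lit 6), (nat_lit 6), (nat_lit 7), (nat_lit 7), (nat_lit 6), (nat_lit 6), (nat_lit 7), (nat_lit 6), (nat_lit 6), (nat_lit 6), (nat_lit 7), (nat_lit 5), (nat_lit 7)],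
  [(nat_lit 11), (nat_lit 10)]]
/-- Data. -/
noncomputable def CC : List Lvl := [⟨(nat_lit 0), [[(nat_lit 1)],
  [(nat_lit 3)]], (nat_lit 9)⟩,
  ⟨(nat_lit 2), [[(nat_lit 5)],
  [(nat_lit 7)]], (nat_lit 8)⟩,
  ⟨(nat_lit 1), [[(nat_lit 9)],
  [(nat_lit 11)]], (nat_lit 3)⟩,
  ⟨(nat_lit 4), [[(nat_lit 13)]], (nat_lit 2)⟩]
/-- Data. -/
noncomputable def CV : List (List Nat) := [[(nat_lit 0xc015840000040000081800008008100000000001e800424040000204080401), (nat_lit 0xffffffff3fea7bfffffbfffff7e7ffff7ff7effffffffffe17ffbdbfbffffdfbf7fbfe), (nat_lit 0), (nat_lit 0), (nat_lit 0), (nat_lit 0), (nat_lit 0), (nat_lit 0), (nat_lit 0)],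
  [(nat_lit 0x2408801080402208410002022000000000000000280000010040304201000000002141), (nat_lit 0x800018004015942000040c80489c2c408048108100000000e821420050080205080c00), (nat_lit 0x82000102a00000100800000000001048000020008842800000002000406510000000), (nat_lit 0x111440000500400004a000000000808c20004044040000000000000002000000a08000), (nat_lit 0x210000000000400000a10101000001108001008002a000048c801000960002051094), (nat_lit 0x20002400000008088010054044040220000aa00001004240012040028018048000200), (nat_lit 0x4000020000000400000008800200000030000a434001501000088004000020104000), (nat_lit 0x25ac180a01110010002010210100010200000021000a0000000500201800020020), (nat_lit 0x480000002000080222425000020012000605041010041800030001088000008040000a)],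
  [(nat_lit 0x40400000620410041001408000804000008100101880044402000000000000000c110), (nat_lit 0x21000000800004000000024000020040000324002011140128c0404000800c82020005), (nat_lit 0xa050010140a000080800208002000002082000000000005080000a0100044000062), (nat_lit 0x40a40001802a000300100000001004000000086088008000101049020008001000), (nat_lit 0xc11010400200c026000001c0a0828411000010000000280010082004092100000000), (nat_lit 0x9800280021400001101821200100582a00000882000002001000038000400000340000), (nat_lit 0x4220800808000000000000002410000182404000800001000202200000209010482480), (nat_lit 0x10000100002014806040841241000060900008160260800001000410040200000a00), (nat_lit 0x24200881000080408000004010008040164400400120004840b02004021810008)],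
  [(nat_lit 0x102401040402120008410000002205000604000004001040000020200000610000010), (nat_lit 0x2000004c0000040012d0000050001800810008000000050c10c01000000082040), (nat_lit 0x88000001a004102004000014150008004010020080020882014000004000000c000), (nat_lit 0x8042000002006888800060010100202100000001100200a0000200040000004050008), (nat_lit 0x402008881100000401000040400000040008000444005800018a080028406001121801), (nat_lit 0x144014000080000014018080000c080124108442002184800200004080809120000000), (nat_lit 0x2001004026010010201020022a20002000000001080600402004000100010000000600), (nat_lit 0x2900107800018024008001080000088020332a8800000000400009012280000000004), (nat_lit 0x80000020080000000022080004808000480000000210021150010020041208cae001a2)]]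
/-- Data. -/
noncomputable def CS : Net := (Net.cons (nat_lit 1) (nat_lit 0x4500511044101445404015110541011045454140114114055141154440151045500410) (Net.cons (nat_lit 2) (nat_lit 0x3000001321103132211313322130033032133203021112012332211000121131002000) (Net.cons (nat_lit 4) (nat_lit 0x80f0903090f0b090701000e04040305010f06030a0a0c0a060f0d02050e0203000000) (Net.cons (nat_lit 8) (nat_lit 0x34008d006100ac00dd0055004c00a600d30093001800ad006100d8004800d40064) (Net.cons (nat_lit 16) (nat_lit 0x430000ed2e00000acc00001db6000018040000f308000024030000e64c00009b00) (Net.cons (nat_lit 32) (nat_lit 0x45437aed000000005feafb4c000000000b0699600000000000858000) (Net.cons (nat_lit 64) (nat_lit 0x4044d20cb0c216e4000000000000000000000000007264a6) (Net.cons (nat_lit 128) (nat_lit 4658168) (Net.cons (nat_lit 256) (nat_lit 16777215) (Net.cons (nat_lit 128) (nat_lit 0x95b0c9bc004d7eac724e3371fdd8ebfa) (Net.cons (nat_lit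 64) (nat_lit 0x59d136adabfdaca00000000000000000b8b743b003087ac7) (Net.cons (nat_lit 32) (nat_lit 0xc9c8d61b00000000a3de516e0000000024dc6a21000000000a03f615) (Net.cons (nat_lit 16) (nat_lit 0x1b0000d6700000e48c0000c0b40000ac600000875a000098f60000cd55000041f6) (Net.cons (nat_lit 8) (nat_lit 0xd400f6006d00ca005a00cd00bb009b007200db003000c1003100d200db00b60077) (Net.cons (nat_lit 4) (nat_lit 0x104060c0e0c010f080901030e0b0a0205010a0d000e0606030801090a010a010a0f02) (Net.cons (nat_lit 2) (nat_lit 0x1122220030131132222130311333001323112120031121210121312233123020233212) (Net.cons (nat_lit 1) (nat_lit 0x5544004414505441150544454504554040445045041415501140110510111101551104) Net.nil)))))))))))))))))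
/-- Data. -/
noncomputable def CCs : List (List Nat) := [[(nat_lit 0), (nat_lit 0x1008000000690000004600c80202100000760100442008000000010000900180006), (nat_lit 0x24405002040000020020212400840210020010000090220081da000058085846880), (nat_lit 0x8000000040c101281b4228900000048202209008010020000014400004900000000049), (nat_lit 0x20802a0018100040240500080019400000950000844100100282000003020400200000), (nat_lit 0x112000002608b800000800002120020000020004200890050000800000083030000100), (nat_lit 0xe1c010000000000009040044000800000400080020000284d202042a0404208420430), (nat_lit 0x4040902200060004000080018004100c54084810001000001000021c48200000018200), (nat_lit 0x5881000003c0001100000201108800000248a204c00041000100000042001000)],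
  [(nat_lit 0), (nat_lit 0xa000004820400084008040340808401804020053011000040000f06030508000040000), (nat_lit 0x808400001030010480086000000880008000000000804000000000848260304020802), (nat_lit 0x2003000801044028040180000001304402010082004000043200482838140b0019020), (nat_lit 0x1024008200800008000101890000006002040000140100020010080000080000002104), (nat_lit 0x1000041420a301120420008242000000508100880070090801000500001809280000), (nat_lit 0x440003014a0410400402000270200402800100004202030000c0010000000040800000), (nat_lit 0x14088100000082021100040019000813180022000a08030300c021000002002404250), (nat_lit 0x83042000080000002800000405200000086c84004008c08402000004000400100489)]]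
/-- Data. -/
noncomputable def CA : List (List (List Nat)) := [[[2, 1, 2, 6], [2, 5, 8, 4], [1, 7, 5, 5], [6, 5, 4, 5]],
  [[7, 5, 5, 3], [3, 2, 6, 3], [4, 4, 5, 3], [4, 5, 7, 2]]]
/-- Data. -/
noncomputable def CD : List (List (List (List Nat))) := [[[[1, 0, 0, 0], [1, 1, 0, 0], [2, 2, 1, 0], [3, 7, 2, 1]],
  [[2, 1, 2, 6], [0, 4, 6, 7], [0, 0, 1, 6], [0, 0, 0, 7]]],
 [[[1, 0, 0, 0], [7, 1, 0, 0], [3, 3, 1, 0], [3, 7, 6, 1]],
  [[7, 5, 5, 3], [0, 5, 0, 2], [0, 0, 6, 7], [0, 0, 0, 2]]]]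

theorem linC_a : linAll (tabQ 3 2 0) 280 4 CV CA C0 CCs 2 = true := by decide +kernel
theorem linC : LinOK (tabQ 3 2 0) 280 4 2 CV CA C0 :=
  ⟨⟨CS, by decide +kernel⟩, by decide +kernel, by decide +kernel, rfl,
    CCs, by decide +kernel, rfl, linAll_iff.1 linC_a⟩

theorem chC : ChainGe C0 C1 280 9 2 CW CC 3265920 :=
  ⟨rfl, by decide, by decide, slp_of_slpOK (by decide +kernel), by decide +kernel, by decide +kernel,
    by decide +kernel⟩

/-- The generators. -/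
def Ug : T4 (List ℕ) :=
  ([1], [3, 1, 4, 1, 4, 2, 3, 2, 3, 2, 4], [3, 2, 3, 2, 4, 2, 3, 1, 4, 1, 4], [4, 1, 3, 1, 4, 4, 2,
  3, 3, 2, 4, 2, 3])

/-- The automizer. -/
def UM : List (List ℕ × T4 (T4 ℕ)) :=
  [([3, 1, 4, 1, 4], (0, 2, 0, 0), (1, 2, 0, 1), (2, 0, 0, 0), (1, 0, 2, 0)), ([4, 1, 3, 1, 4, 4],
  (0, 0, 0, 2), (0, 0, 2, 2), (1, 0, 0, 0), (2, 2, 1, 2))]

/-- Fusion. -/
def UF : List (List ℕ × T4 ℕ × T4 ℕ) :=
  []

/-- Representatives. -/
def UR : List (T4 ℕ) :=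
  [(1, 0, 0, 0), (1, 1, 0, 0), (0, 1, 1, 0)]

/-- A subgroup. -/
def UT0 : List (T4 ℕ × List (List ℕ)) :=
  [((1, 0, 0, 0), [[], [0], [0, 1, 0], [1], [1, 0, 1], [1, 0], [0, 0, 1], [0, 1], [0, 0], [1, 0, 0],
  [1, 1, 0], [0, 1, 1, 0], [0, 1, 0, 1], [1, 1], [1, 1, 0, 1]]), ((1, 1, 0, 0), [[], [0, 1], [0],
  [1, 0, 1], [1], [0, 0, 1, 0, 0], [0, 1, 0, 1], [0, 1, 0, 0], [1, 0, 0], [0, 0]]), ((0, 1, 1, 0),
  [[], [0, 1, 0], [1, 0], [1, 0, 1], [0, 1], [1, 0, 0, 0], [0], [0, 0, 1], [1, 1, 0], [0, 0, 0], [0,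
  0, 1, 0], [1], [0, 0], [0, 1, 0, 0, 0], [0, 0, 0, 1, 0]])]

/-- A subgroup. -/
def UT1 : List (T4 ℕ × List (List ℕ)) :=
  [((1, 0, 0, 0), [[], [0], [1], [1, 0, 1], [0, 0, 1], [0, 0]]), ((1, 1, 0, 0), [[], [0], [1, 0, 1],
  [1, 0, 0]]), ((0, 1, 1, 0), [[0, 1, 0], [0], [0, 0, 1]])]

/-- A subgroup. -/
def UT2 : List (T4 ℕ × List (List ℕ)) :=
  [((1, 0, 0, 0), [[], [0], [0, 0, 1]]), ((1, 1, 0, 0), [[]])]

theorem u8 : FldOK 8 3 (nat_lit 0x5397721ab3e4c1de5688fac977053b3e21ade54c1fac688)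
    (nat_lit 0x73157889d3f0cfa868356ee0467b98bcbd10fac688000000) := by decide +kernel

/-- The field table. -/
noncomputable def U8 : Tab := tabT 8 3 (nat_lit 0x5397721ab3e4c1de5688fac977053b3e21ade54c1fac688)
  (nat_lit 0x73157889d3f0cfa868356ee0467b98bcbd10fac688000000)

/-- Root elements. -/
def E14 : List (List (List ℕ)) :=
  [[[1, 0, 0, 0, 0, 0, 0, 0, 0, 0, 0, 0, 0, 0], [0, 1, 0, 0, 0, 0, 0, 0, 0, 0, 0, 0, 0, 0], [0, 0,
  1, 0, 0, 0, 0, 0, 0, 0, 0, 0, 0, 0], [0, 0, 0, 1, 0, 0, 0, 0, 0, 0, 0, 0, 0, 0], [0, 0, 0, 0, 1,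
  0, 0, 0, 0, 0, 0, 0, 0, 0], [0, 0, 0, 0, 0, 1, 0, 0, 0, 0, 0, 0, 0, 0], [0, 0, 0, 0, 0, 0, 1, 0,
  0, 0, 0, 0, 0, 0], [0, 0, 0, 0, 0, 0, 0, 1, 0, 0, 0, 0, 0, 0], [0, 0, 0, 0, 0, 0, 0, 0, 1, 0, 0,
  0, 0, 0], [0, 0, 0, 0, 0, 0, 0, 0, 0, 1, 0, 0, 0, 0], [0, 0, 0, 0, 0, 0, 0, 0, 0, 0, 1, 0, 0, 0],
  [0, 0, 0, 0, 0, 0, 0, 0, 0, 0, 0, 1, 0, 0], [0, 0, 0, 0, 0, 0, 0, 0, 0, 0, 0, 0, 1, 0], [0, 0, 0,
  0, 0, 0, 0, 0, 0, 0, 0, 0, 0, 1]], [[1, 0, 0, 0, 0, 0, 1, 0, 0, 0, 0, 0, 0, 0], [0, 1, 0, 0, 0, 0,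
  0, 0, 0, 0, 0, 0, 0, 0], [0, 0, 1, 0, 0, 0, 0, 0, 0, 0, 0, 0, 0, 0], [0, 0, 0, 1, 0, 0, 0, 0, 0,
  0, 0, 0, 0, 0], [0, 0, 0, 1, 1, 0, 0, 0, 0, 0, 0, 0, 0, 0], [0, 0, 0, 1, 0, 1, 0, 0, 0, 0, 0, 0,
  0, 0], [0, 0, 0, 0, 0, 0, 1, 0, 0, 0, 0, 0, 0, 0], [0, 0, 0, 1, 1, 1, 0, 1, 0, 0, 0, 0, 0, 0], [0,
  0, 0, 0, 0, 0, 0, 0, 1, 0, 0, 0, 0, 0], [0, 1, 0, 0, 0, 0, 1, 0, 0, 1, 0, 0, 0, 0], [0, 0, 0, 0,
  0, 0, 0, 0, 1, 0, 1, 0, 0, 0], [0, 0, 0, 0, 0, 0, 0, 0, 1, 0, 0, 1, 0, 0], [0, 0, 0, 0, 0, 0, 0,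
  0, 1, 0, 1, 1, 1, 0], [0, 0, 0, 0, 0, 0, 0, 0, 0, 0, 0, 0, 0, 1]], [[1, 0, 0, 0, 0, 0, 1, 0, 0, 0,
  0, 0, 0, 0], [0, 1, 0, 0, 0, 0, 0, 0, 0, 0, 0, 0, 0, 0], [0, 0, 1, 0, 0, 0, 0, 0, 0, 0, 0, 0, 0,
  0], [0, 0, 0, 1, 0, 0, 0, 0, 0, 0, 0, 0, 0, 0], [0, 0, 0, 1, 1, 0, 0, 0, 0, 0, 0, 0, 0, 0], [0, 0,
  0, 1, 0, 1, 0, 0, 0, 0, 0, 0, 0, 0], [0, 0, 0, 0, 0, 0, 1, 0, 0, 0, 0, 0, 0, 0], [0, 0, 0, 1, 1,
  1, 0, 1, 0, 0, 0, 0, 0, 0], [0, 0, 0, 0, 0, 0, 0, 0, 1, 0, 0, 0, 0, 0], [0, 1, 0, 0, 0, 0, 1, 0,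
  0, 1, 0, 0, 0, 0], [0, 0, 0, 0, 0, 0, 0, 0, 1, 0, 1, 0, 0, 0], [0, 0, 0, 0, 0, 0, 0, 0, 1, 0, 0,
  1, 0, 0], [0, 0, 0, 0, 0, 0, 0, 0, 1, 0, 1, 1, 1, 0], [0, 0, 0, 0, 0, 0, 0, 0, 0, 0, 0, 0, 0, 1]],
  [[1, 0, 0, 0, 0, 0, 0, 0, 0, 0, 0, 0, 0, 0], [0, 1, 0, 0, 0, 0, 0, 1, 0, 0, 0, 0, 0, 0], [0, 0, 1,
  0, 0, 0, 0, 0, 0, 0, 0, 0, 0, 0], [0, 0, 1, 1, 0, 0, 0, 0, 0, 0, 0, 0, 0, 0], [0, 0, 0, 0, 1, 0,
  0, 0, 0, 0, 0, 0, 0, 0], [0, 0, 0, 0, 0, 1, 0, 0, 0, 0, 0, 0, 0, 0], [0, 0, 0, 0, 0, 1, 1, 0, 0,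
  0, 0, 0, 0, 0], [0, 0, 0, 0, 0, 0, 0, 1, 0, 0, 0, 0, 0, 0], [1, 0, 0, 0, 0, 0, 0, 1, 1, 0, 0, 0,
  0, 0], [0, 0, 0, 0, 0, 0, 0, 0, 0, 1, 0, 0, 0, 0], [0, 0, 0, 0, 0, 0, 0, 0, 0, 1, 1, 0, 0, 0], [0,
  0, 0, 0, 0, 0, 0, 0, 0, 0, 0, 1, 0, 0], [0, 0, 0, 0, 0, 0, 0, 0, 0, 0, 0, 0, 1, 0], [0, 0, 0, 0,
  0, 0, 0, 0, 0, 0, 0, 0, 1, 1]], [[1, 0, 0, 0, 0, 0, 0, 0, 0, 0, 0, 0, 0, 0], [0, 1, 0, 0, 0, 0, 0,
  1, 0, 0, 0, 0, 0, 0], [0, 0, 1, 0, 0, 0, 0, 0, 0, 0, 0, 0, 0, 0], [0, 0, 1, 1, 0, 0, 0, 0, 0, 0,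
  0, 0, 0, 0], [0, 0, 0, 0, 1, 0, 0, 0, 0, 0, 0, 0, 0, 0], [0, 0, 0, 0, 0, 1, 0, 0, 0, 0, 0, 0, 0,
  0], [0, 0, 0, 0, 0, 1, 1, 0, 0, 0, 0, 0, 0, 0], [0, 0, 0, 0, 0, 0, 0, 1, 0, 0, 0, 0, 0, 0], [1, 0,
  0, 0, 0, 0, 0, 1, 1, 0, 0, 0, 0, 0], [0, 0, 0, 0, 0, 0, 0, 0, 0, 1, 0, 0, 0, 0], [0, 0, 0, 0, 0,
  0, 0, 0, 0, 1, 1, 0, 0, 0], [0, 0, 0, 0, 0, 0, 0, 0, 0, 0, 0, 1, 0, 0], [0, 0, 0, 0, 0, 0, 0, 0,
  0, 0, 0, 0, 1, 0], [0, 0, 0, 0, 0, 0, 0, 0, 0, 0, 0, 0, 1, 1]], [[1, 0, 0, 0, 0, 0, 0, 0, 0, 1, 0,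
  0, 0, 0], [0, 1, 0, 0, 0, 0, 0, 0, 0, 0, 0, 0, 0, 0], [0, 0, 1, 0, 0, 0, 0, 0, 0, 0, 0, 0, 0, 0],
  [0, 0, 0, 1, 1, 1, 0, 1, 0, 0, 0, 0, 0, 0], [0, 0, 0, 0, 1, 0, 0, 1, 0, 0, 0, 0, 0, 0], [0, 0, 0,
  0, 0, 1, 0, 1, 0, 0, 0, 0, 0, 0], [0, 1, 0, 0, 0, 0, 1, 0, 0, 1, 0, 0, 0, 0], [0, 0, 0, 0, 0, 0,
  0, 1, 0, 0, 0, 0, 0, 0], [0, 0, 0, 0, 0, 0, 0, 0, 1, 0, 1, 1, 1, 0], [0, 0, 0, 0, 0, 0, 0, 0, 0,
  1, 0, 0, 0, 0], [0, 0, 0, 0, 0, 0, 0, 0, 0, 0, 1, 0, 1, 0], [0, 0, 0, 0, 0, 0, 0, 0, 0, 0, 0, 1,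
  1, 0], [0, 0, 0, 0, 0, 0, 0, 0, 0, 0, 0, 0, 1, 0], [0, 0, 0, 0, 0, 0, 0, 0, 0, 0, 0, 0, 0, 1]],
  [[1, 0, 0, 0, 0, 0, 0, 0, 0, 1, 0, 0, 0, 0], [0, 1, 0, 0, 0, 0, 0, 0, 0, 0, 0, 0, 0, 0], [0, 0, 1,
  0, 0, 0, 0, 0, 0, 0, 0, 0, 0, 0], [0, 0, 0, 1, 1, 1, 0, 1, 0, 0, 0, 0, 0, 0], [0, 0, 0, 0, 1, 0,
  0, 1, 0, 0, 0, 0, 0, 0], [0, 0, 0, 0, 0, 1, 0, 1, 0, 0, 0, 0, 0, 0], [0, 1, 0, 0, 0, 0, 1, 0, 0,
  1, 0, 0, 0, 0], [0, 0, 0, 0, 0, 0, 0, 1, 0, 0, 0, 0, 0, 0], [0, 0, 0, 0, 0, 0, 0, 0, 1, 0, 1, 1,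
  1, 0], [0, 0, 0, 0, 0, 0, 0, 0, 0, 1, 0, 0, 0, 0], [0, 0, 0, 0, 0, 0, 0, 0, 0, 0, 1, 0, 1, 0], [0,
  0, 0, 0, 0, 0, 0, 0, 0, 0, 0, 1, 1, 0], [0, 0, 0, 0, 0, 0, 0, 0, 0, 0, 0, 0, 1, 0], [0, 0, 0, 0,
  0, 0, 0, 0, 0, 0, 0, 0, 0, 1]], [[1, 0, 0, 0, 0, 0, 0, 0, 0, 0, 0, 0, 0, 0], [0, 1, 0, 0, 0, 0, 0,
  0, 1, 0, 0, 0, 0, 0], [0, 0, 1, 1, 0, 0, 0, 0, 0, 0, 0, 0, 0, 0], [0, 0, 0, 1, 0, 0, 0, 0, 0, 0,
  0, 0, 0, 0], [0, 0, 0, 0, 1, 0, 0, 0, 0, 0, 0, 0, 0, 0], [0, 0, 0, 0, 0, 1, 1, 0, 0, 0, 0, 0, 0,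
  0], [0, 0, 0, 0, 0, 0, 1, 0, 0, 0, 0, 0, 0, 0], [1, 0, 0, 0, 0, 0, 0, 1, 1, 0, 0, 0, 0, 0], [0, 0,
  0, 0, 0, 0, 0, 0, 1, 0, 0, 0, 0, 0], [0, 0, 0, 0, 0, 0, 0, 0, 0, 1, 1, 0, 0, 0], [0, 0, 0, 0, 0,
  0, 0, 0, 0, 0, 1, 0, 0, 0], [0, 0, 0, 0, 0, 0, 0, 0, 0, 0, 0, 1, 0, 0], [0, 0, 0, 0, 0, 0, 0, 0,
  0, 0, 0, 0, 1, 1], [0, 0, 0, 0, 0, 0, 0, 0, 0, 0, 0, 0, 0, 1]], [[1, 0, 0, 0, 0, 0, 0, 0, 0, 0, 0,
  0, 0, 0], [0, 1, 0, 0, 0, 0, 0, 0, 1, 0, 0, 0, 0, 0], [0, 0, 1, 1, 0, 0, 0, 0, 0, 0, 0, 0, 0, 0],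
  [0, 0, 0, 1, 0, 0, 0, 0, 0, 0, 0, 0, 0, 0], [0, 0, 0, 0, 1, 0, 0, 0, 0, 0, 0, 0, 0, 0], [0, 0, 0,
  0, 0, 1, 1, 0, 0, 0, 0, 0, 0, 0], [0, 0, 0, 0, 0, 0, 1, 0, 0, 0, 0, 0, 0, 0], [1, 0, 0, 0, 0, 0,
  0, 1, 1, 0, 0, 0, 0, 0], [0, 0, 0, 0, 0, 0, 0, 0, 1, 0, 0, 0, 0, 0], [0, 0, 0, 0, 0, 0, 0, 0, 0,
  1, 1, 0, 0, 0], [0, 0, 0, 0, 0, 0, 0, 0, 0, 0, 1, 0, 0, 0], [0, 0, 0, 0, 0, 0, 0, 0, 0, 0, 0, 1,
  0, 0], [0, 0, 0, 0, 0, 0, 0, 0, 0, 0, 0, 0, 1, 1], [0, 0, 0, 0, 0, 0, 0, 0, 0, 0, 0, 0, 0, 1]],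
  [[1, 0, 0, 0, 0, 0, 0, 0, 0, 0, 0, 0, 0, 0], [0, 1, 0, 0, 0, 0, 0, 2, 0, 0, 0, 0, 0, 0], [0, 0, 1,
  0, 0, 0, 0, 0, 0, 0, 0, 0, 0, 0], [0, 0, 2, 1, 0, 0, 0, 0, 0, 0, 0, 0, 0, 0], [0, 0, 0, 0, 1, 0,
  0, 0, 0, 0, 0, 0, 0, 0], [0, 0, 0, 0, 0, 1, 0, 0, 0, 0, 0, 0, 0, 0], [0, 0, 0, 0, 0, 2, 1, 0, 0,
  0, 0, 0, 0, 0], [0, 0, 0, 0, 0, 0, 0, 1, 0, 0, 0, 0, 0, 0], [2, 0, 0, 0, 0, 0, 0, 4, 1, 0, 0, 0,
  0, 0], [0, 0, 0, 0, 0, 0, 0, 0, 0, 1, 0, 0, 0, 0], [0, 0, 0, 0, 0, 0, 0, 0, 0, 2, 1, 0, 0, 0], [0,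
  0, 0, 0, 0, 0, 0, 0, 0, 0, 0, 1, 0, 0], [0, 0, 0, 0, 0, 0, 0, 0, 0, 0, 0, 0, 1, 0], [0, 0, 0, 0,
  0, 0, 0, 0, 0, 0, 0, 0, 2, 1]], [[1, 0, 0, 0, 0, 0, 0, 0, 0, 0, 0, 0, 0, 0], [0, 1, 0, 0, 0, 0, 0,
  2, 0, 0, 0, 0, 0, 0], [0, 0, 1, 0, 0, 0, 0, 0, 0, 0, 0, 0, 0, 0], [0, 0, 2, 1, 0, 0, 0, 0, 0, 0,
  0, 0, 0, 0], [0, 0, 0, 0, 1, 0, 0, 0, 0, 0, 0, 0, 0, 0], [0, 0, 0, 0, 0, 1, 0, 0, 0, 0, 0, 0, 0,
  0], [0, 0, 0, 0, 0, 2, 1, 0, 0, 0, 0, 0, 0, 0], [0, 0, 0, 0, 0, 0, 0, 1, 0, 0, 0, 0, 0, 0], [2, 0,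
  0, 0, 0, 0, 0, 4, 1, 0, 0, 0, 0, 0], [0, 0, 0, 0, 0, 0, 0, 0, 0, 1, 0, 0, 0, 0], [0, 0, 0, 0, 0,
  0, 0, 0, 0, 2, 1, 0, 0, 0], [0, 0, 0, 0, 0, 0, 0, 0, 0, 0, 0, 1, 0, 0], [0, 0, 0, 0, 0, 0, 0, 0,
  0, 0, 0, 0, 1, 0], [0, 0, 0, 0, 0, 0, 0, 0, 0, 0, 0, 0, 2, 1]], [[1, 0, 0, 0, 0, 0, 0, 0, 0, 0, 0,
  0, 0, 0], [0, 1, 0, 0, 0, 0, 0, 0, 4, 0, 0, 0, 0, 0], [0, 0, 1, 4, 0, 0, 0, 0, 0, 0, 0, 0, 0, 0],
  [0, 0, 0, 1, 0, 0, 0, 0, 0, 0, 0, 0, 0, 0], [0, 0, 0, 0, 1, 0, 0, 0, 0, 0, 0, 0, 0, 0], [0, 0, 0,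
  0, 0, 1, 4, 0, 0, 0, 0, 0, 0, 0], [0, 0, 0, 0, 0, 0, 1, 0, 0, 0, 0, 0, 0, 0], [4, 0, 0, 0, 0, 0,
  0, 1, 6, 0, 0, 0, 0, 0], [0, 0, 0, 0, 0, 0, 0, 0, 1, 0, 0, 0, 0, 0], [0, 0, 0, 0, 0, 0, 0, 0, 0,
  1, 4, 0, 0, 0], [0, 0, 0, 0, 0, 0, 0, 0, 0, 0, 1, 0, 0, 0], [0, 0, 0, 0, 0, 0, 0, 0, 0, 0, 0, 1,
  0, 0], [0, 0, 0, 0, 0, 0, 0, 0, 0, 0, 0, 0, 1, 4], [0, 0, 0, 0, 0, 0, 0, 0, 0, 0, 0, 0, 0, 1]],
  [[1, 0, 0, 0, 0, 0, 0, 0, 0, 0, 0, 0, 0, 0], [0, 1, 0, 0, 0, 0, 0, 0, 4, 0, 0, 0, 0, 0], [0, 0, 1,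
  4, 0, 0, 0, 0, 0, 0, 0, 0, 0, 0], [0, 0, 0, 1, 0, 0, 0, 0, 0, 0, 0, 0, 0, 0], [0, 0, 0, 0, 1, 0,
  0, 0, 0, 0, 0, 0, 0, 0], [0, 0, 0, 0, 0, 1, 4, 0, 0, 0, 0, 0, 0, 0], [0, 0, 0, 0, 0, 0, 1, 0, 0,
  0, 0, 0, 0, 0], [4, 0, 0, 0, 0, 0, 0, 1, 6, 0, 0, 0, 0, 0], [0, 0, 0, 0, 0, 0, 0, 0, 1, 0, 0, 0,
  0, 0], [0, 0, 0, 0, 0, 0, 0, 0, 0, 1, 4, 0, 0, 0], [0, 0, 0, 0, 0, 0, 0, 0, 0, 0, 1, 0, 0, 0], [0,
  0, 0, 0, 0, 0, 0, 0, 0, 0, 0, 1, 0, 0], [0, 0, 0, 0, 0, 0, 0, 0, 0, 0, 0, 0, 1, 4], [0, 0, 0, 0,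
  0, 0, 0, 0, 0, 0, 0, 0, 0, 1]], [[1, 0, 0, 0, 0, 0, 0, 0, 0, 0, 0, 0, 0, 0], [0, 1, 0, 0, 0, 0, 0,
  3, 0, 0, 0, 0, 0, 0], [0, 0, 1, 0, 0, 0, 0, 0, 0, 0, 0, 0, 0, 0], [0, 0, 3, 1, 0, 0, 0, 0, 0, 0,
  0, 0, 0, 0], [0, 0, 0, 0, 1, 0, 0, 0, 0, 0, 0, 0, 0, 0], [0, 0, 0, 0, 0, 1, 0, 0, 0, 0, 0, 0, 0,
  0], [0, 0, 0, 0, 0, 3, 1, 0, 0, 0, 0, 0, 0, 0], [0, 0, 0, 0, 0, 0, 0, 1, 0, 0, 0, 0, 0, 0], [3, 0,
  0, 0, 0, 0, 0, 5, 1, 0, 0, 0, 0, 0], [0, 0, 0, 0, 0, 0, 0, 0, 0, 1, 0, 0, 0, 0], [0, 0, 0, 0, 0,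
  0, 0, 0, 0, 3, 1, 0, 0, 0], [0, 0, 0, 0, 0, 0, 0, 0, 0, 0, 0, 1, 0, 0], [0, 0, 0, 0, 0, 0, 0, 0,
  0, 0, 0, 0, 1, 0], [0, 0, 0, 0, 0, 0, 0, 0, 0, 0, 0, 0, 3, 1]], [[1, 0, 0, 0, 0, 0, 0, 0, 0, 0, 0,
  0, 0, 0], [0, 1, 0, 0, 0, 0, 0, 3, 0, 0, 0, 0, 0, 0], [0, 0, 1, 0, 0, 0, 0, 0, 0, 0, 0, 0, 0, 0],
  [0, 0, 3, 1, 0, 0, 0, 0, 0, 0, 0, 0, 0, 0], [0, 0, 0, 0, 1, 0, 0, 0, 0, 0, 0, 0, 0, 0], [0, 0, 0,
  0, 0, 1, 0, 0, 0, 0, 0, 0, 0, 0], [0, 0, 0, 0, 0, 3, 1, 0, 0, 0, 0, 0, 0, 0], [0, 0, 0, 0, 0, 0,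
  0, 1, 0, 0, 0, 0, 0, 0], [3, 0, 0, 0, 0, 0, 0, 5, 1, 0, 0, 0, 0, 0], [0, 0, 0, 0, 0, 0, 0, 0, 0,
  1, 0, 0, 0, 0], [0, 0, 0, 0, 0, 0, 0, 0, 0, 3, 1, 0, 0, 0], [0, 0, 0, 0, 0, 0, 0, 0, 0, 0, 0, 1,
  0, 0], [0, 0, 0, 0, 0, 0, 0, 0, 0, 0, 0, 0, 1, 0], [0, 0, 0, 0, 0, 0, 0, 0, 0, 0, 0, 0, 3, 1]]]

/-- Roots. -/
def Ers : List (List ℕ) :=
  [[], [7, 1], [], [6, 1], [], [4, 1], [], [5, 1], [], [6, 2], [], [5, 4], [], [6, 3]]

theorem card_ker {A B : Type*} [Group A] [Group B] {φ : A →* B} (h : Function.Surjective φ) :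
    Nat.card A = Nat.card φ.ker * Nat.card B := by
  rw [← φ.ker.card_mul_index, Subgroup.index_ker, MonoidHom.range_eq_top.2 h, Subgroup.card_top]

variable {K : Type*} [Field K] [CharP K 2] {ρ : G7 →* Mt (ZMod 2)} (D : Dat K ρ)
  {H : Subgroup G7} {F : Type*} [Field F] [Fintype F]
include D

theorem Dat.l219 (hH : IsCoatom H) (hF : Fintype.card F = 19) :
    IsEmpty (generalizedFittingSubgroup H ≃* ProjectiveSpecialLinearGroup (Fin 2) F) := by
  have : Fact (Nat.Prime 19) := ⟨by norm_num⟩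
  have : CharP F 19 := charP_of_card_eq_prime hF
  have hc : Nat.card (ProjectiveSpecialLinearGroup (Fin 2) F) = 3420 := by
    have := CF.Classical.card_PSL_two (F := F)
    rw [hF] at this
    norm_num at this
    omega
  obtain ⟨φ, h1, -, h2⟩ := Cfsg.Agent.S2602.result (p := 19) (f := 1) le_rfl hF (by decide)
  exact D.no hH (o := 2) (a := 1) (e := 0) hc (by rw [card_ker h1, h2]; simp) (by decide)
    (by decide) (by decide) (by decide) (D.g255 (g255_of chA (linA.hasReps_PSL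
      (tabP_ok F 19 (by decide)) (Ds := AD) (by decide +kernel)) hc (by decide +kernel)))

theorem Dat.l43 (hH : IsCoatom H) :
    IsEmpty (generalizedFittingSubgroup H ≃* ProjectiveSpecialLinearGroup (Fin 4) (ZMod 3)) := by
  have hc : Nat.card (ProjectiveSpecialLinearGroup (Fin 4) (ZMod 3)) = 6065280 := by
    have := CF.Classical.card_PSL_fin (F := ZMod 3) 4 (by decide)
    rw [ZMod.card, Fin.prod_univ_four] at this
    exact Nat.eq_of_mul_eq_mul_left (by decide) (Nat.eq_of_mul_eq_mul_left (by decide)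
      (this.trans (by decide)))
  obtain ⟨φ, h1, -, h2⟩ := Cfsg.Agent.S2601.result (F := ZMod 3) (p := 3) (f := 1) (n := 4) le_rfl
    rfl (by decide)
  exact D.no hH (o := 4) (a := 2) (e := 0) hc (by rw [card_ker h1, h2]; simp) (by decide)
    (by decide) (by decide) (by decide) (D.g255 (g255_of chB (linB.hasReps_PSL
      (tabP_ok _ 3 (by decide)) (Ds := BD) (by decide +kernel)) hc (by decide +kernel)))

theorem Dat.j2 : ¬Spor.IsoJ2 (generalizedFittingSubgroup H) :=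
  not_nonempty_iff.2 (no_sub (D.h25 (h25_of (ck_of_exact (k := 7) J2.exact.reps J2.exact.faithful
    (by decide) (by decide)) [10, 6, 7, 10, 5, 7, 5, 9, 1, 5] [8, 4, 5, 7, 10, 5, 7, 1, 10, 5]
    [4, 8, 9, 5, 7, 10, 5, 10, 7, 3] [6, 9, 7, 1, 5, 3, 7, 1, 10, 5] (by decide +kernel))))

theorem Dat.g28 (hF : Fintype.card F = 8) (j : chevG2.group F →* G7) : ¬Function.Injective j := by
  obtain ⟨el, hT⟩ := exists_ok_tab u8 hF
  obtain ⟨f, c⟩ := ck_mat (ρ := chevMat chevG2 F) (m := 7) (Ms := E14)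
    (Units.val_injective.comp Subtype.val_injective) hT (fun i hi => hT.exists_chev
      (tabT_tot _ _ _ (by decide)) (c := 1) (by decide +kernel) (allFrom_zero.1 (show allFrom
        (fun i => chevAt U8 1 chevG2 E14 E14.tail Ers (2 * i + 1)) 0 7 by decide +kernel) i hi))
    (by decide +kernel)
  intro hj
  let a := [9, 11, 13]
  let s := [1, 3, 7, 3, 5, 1, 3, 7, 5]
  have h1 := c.rel (w := wpow a 9) (by decide +kernel)
  have h2 := c.eq (u := a ++ (s ++ a ++ winv s)) (v := s ++ a ++ winv s ++ a) (by decide +kernel)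
  have h3 := c.ne (w := wpow a 3 ++ (s ++ wpow a 6 ++ winv s)) (by decide +kernel)
  have h4 := c.eq (u := s ++ (s ++ a ++ winv s) ++ winv s) (v := winv a ++ (s ++ winv a ++ winv s))
    (by decide +kernel)
  simp only [ev_append, ev_winv, ev_wpow] at h1 h2 h3 h4
  generalize ev f a = a, ev f s = s at *
  refine D.no81 (a := j a) (b := j (s * a * s⁻¹)) (s := j s) (Commute.map h2 j) ?_ ?_ ?_ ?_ <;>
    simp only [← map_mul, ← map_pow, ← map_inv, ne_eq, map_eq_one_iff j hj, h1, h3, h4, conj_pow,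
      not_false_eq_true, (eq_inv_of_mul_eq_one_left ((pow_succ a 8).symm.trans h1))]

theorem Dat.u43 [IsAlgClosed K] (hH : IsCoatom H) (hF : Fintype.card F = 9) :
    IsEmpty (generalizedFittingSubgroup H ≃* PSU 4 F 3) := by
  have : CharP F 3 := charP_of_card_eq_prime_pow (R := F) (p := 3) (f := 2) hF
  obtain ⟨ω, hω⟩ := FiniteField.isSquare_neg_one_iff.2 (show Fintype.card F % 4 ≠ 3 by
    rw [hF]; decide)
  have h3 : (3 : F) = 0 := by exact_mod_cast CharP.cast_eq_zero F 3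
  have hT := tabQ_ok 3 2 0 (by decide) (ω := ω) (by push_cast; linear_combination -hω - h3)
    (by decide)
  have hc : Nat.card (PSU 4 F 3) = 3265920 := by
    have := card_PSU_mul (K := F) (q := 3) (d := 4) hF (by decide)
    simp only [Finset.prod_range_succ, Finset.prod_range_zero] at this
    norm_num at this
    omega
  obtain ⟨φ, h1, -, h2⟩ := Cfsg.Agent.S2603.result (p := 3) (f := 1) (q := 3) (n := 4) le_rfl rfl
    hF (by decide) (by decide)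
  refine D.no hH (o := 8) (a := 3) (e := 0) hc (by rw [card_ker h1, h2]; simp) (by decide)
    (by decide) (by decide) (by decide) fun j hj => ?_
  obtain ⟨f, c, h6⟩ := exists_gen chC (linC.hasReps_PSU hT (q := 3) hF (by decide) (Ds := CD)
    (by decide +kernel)) hc (by decide)
  have h : q3C (idW C0 280 9) (fun w => !sameW C0 280 9 w []) Ug UM UF UR := by decide +kernel
  obtain ⟨N, q, hF, hR, hN⟩ := D.q3 c h hj
  simp only [UF, UR, List.forall_mem_cons] at hF hR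
  obtain ⟨r0, r1, r2, -⟩ := hR
  have h0 := q.ok UT0 13 27 (by decide +kernel)
  have h1 := q.le UT1 UT2 1 3 3 4 (by decide +kernel)
  simp only [sm, UT0, UT1, UT2, List.map, List.sum_cons, List.sum_nil] at h0 h1
  have key := (by decide +kernel : ∀ a ∈ [2, 14, 20, 32], ∀ b ∈ [2, 14, 20, 32], ∀ c ∈ [2, 14, 20,
    32], (56 * 13 ≤ 15 * a + (10 * b + (15 * c + 0)) ∧ (15 * a + (10 * b + (15 * c + 0))) % 27 = 56
    * 13 % 27) → 1 * (6 * a + (4 * b + (3 * c + 0))) + 56 * 3 ≤ 3 * (3 * a + (1 * b + 0)) + 56 * 4 →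
    a = 32) _ r0 _ r1 _ r2 h0 h1
  have k : ∀ w, idW C0 280 9 (wpow w 5) → (!sameW C0 280 9 w []) → dm (rK K ρ) (j (ev f w)) = 16 :=
    fun w e e' => D.d5 (by rw [← map_pow, ← ev_wpow, c.rel e, map_one])
      (mt (map_eq_one_iff j hj).1 (c.ne e'))
  rw [range_eq j h6]
  refine fix_scott ?_
  rw [← map_mul, ← ev_append, k [3] (by decide +kernel) (by decide +kernel),
    k ([1] ++ [3]) (by decide +kernel) (by decide +kernel), ← show eW Ug (1, 0, 0, 0) = [1] from rfl,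
    ← hN, key, Module.finrank_fin_fun]
  decide

end CF.E72
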